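import Cfsg.Agent.Lib.Helper5.AutSU.Facts4
import Mathlib

/-!
# The special unitary group: commutation of root subgroups from their shapes (helper5)
-/

set_option autoImplicit false

namespace Cfsg.Agent.Lib.Helper5.AutSU

open Matrix Cfsg Cfsg.Agent.Lib.Helper5.GLBN Cfsg.Agent.Lib.Helper8.SpBN
open Cfsg.Agent.Lib.Helper8.Tw Cfsg.Agent.PSUT
open scoped MatrixGroups

variable {N : ℕ} {F : Type*} [Field F]

theorem comm_of_mul_zero {X Y : Matrix (Fin N) (Fin N) F} (h1 : (X - 1) * (Y - 1) = 0)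
    (h2 : (Y - 1) * (X - 1) = 0) : X * Y = Y * X := by
  have e : X * Y - Y * X = (X - 1) * (Y - 1) - (Y - 1) * (X - 1) := by noncomm_ring
  rw [h1, h2, sub_self] at e
  exact sub_eq_zero.1 e

theorem sub_one_ne_up {i : ℕ} {M : Matrix (Fin N) (Fin N) F} (h : IsUpU M) (hb : IsBlkU i M)
    {a b : Fin N} (hne : (M - 1) a b ≠ 0) : a < b ∧ blk N i a b := by
  rw [Matrix.sub_apply] at hne
  rcases lt_trichotomy a b with hab | hab | hab
  · refine ⟨hab, ?_⟩
    by_contra hn
    rw [hb a b hab hn, Matrix.one_apply_ne (ne_of_lt hab), sub_zero] at hne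
    exact hne rfl
  · rw [hab, h.2, Matrix.one_apply_eq, sub_self] at hne
    exact absurd rfl hne
  · rw [h.1 a b hab, Matrix.one_apply_ne (ne_of_gt hab), sub_zero] at hne
    exact absurd rfl hne

theorem sub_one_ne_lo {i : ℕ} {M : Matrix (Fin N) (Fin N) F} (h : IsLoU M) (hb : IsBlk i M)
    {a b : Fin N} (hne : (M - 1) a b ≠ 0) : b < a ∧ blk N i a b := by
  rw [Matrix.sub_apply] at hne
  rcases lt_trichotomy a b with hab | hab | hab
  · rw [h.1 a b hab, Matrix.one_apply_ne (ne_of_lt hab), sub_zero] at hne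
    exact absurd rfl hne
  · rw [hab, h.2, Matrix.one_apply_eq, sub_self] at hne
    exact absurd rfl hne
  · refine ⟨hab, ?_⟩
    by_contra hn
    rw [hb a b hab hn, Matrix.one_apply_ne (ne_of_gt hab), sub_zero] at hne
    exact hne rfl

/-- positive and negative root elements of distinct nodes commute -/
theorem up_lo_comm {i j : ℕ} (hi : 2 * i + 2 ≤ N) (hj : 2 * j + 2 ≤ N) (hij : i ≠ j)
    {X Y : Matrix (Fin N) (Fin N) F} (hX : IsUpU X) (hXb : IsBlkU i X) (hY : IsLoU Y)
    (hYb : IsBlk j Y) : X * Y = Y * X := by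
  apply comm_of_mul_zero
  · ext a c
    rw [Matrix.mul_apply, Matrix.zero_apply]
    apply Finset.sum_eq_zero
    intro b _
    by_contra hne
    have h1 := sub_one_ne_up hX hXb (left_ne_zero_of_mul hne)
    have h2 := sub_one_ne_lo hY hYb (right_ne_zero_of_mul hne)
    have ha := a.2
    have hb := b.2
    have hc := c.2
    obtain ⟨h1a, h1b⟩ := h1
    obtain ⟨h2a, h2b⟩ := h2
    rw [Fin.lt_def] at h1a h2a
    unfold blk at h1b h2b
    omega
  · ext a c
    rw [Matrix.mul_apply, Matrix.zero_apply]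
    apply Finset.sum_eq_zero
    intro b _
    by_contra hne
    have h1 := sub_one_ne_lo hY hYb (left_ne_zero_of_mul hne)
    have h2 := sub_one_ne_up hX hXb (right_ne_zero_of_mul hne)
    have ha := a.2
    have hb := b.2
    have hc := c.2
    obtain ⟨h1a, h1b⟩ := h1
    obtain ⟨h2a, h2b⟩ := h2
    rw [Fin.lt_def] at h1a h2a
    unfold blk at h1b h2b
    omega

/-- positive root elements of non-adjacent nodes commute -/
theorem up_up_comm {i j : ℕ} (hi : 2 * i + 2 ≤ N) (hj : 2 * j + 2 ≤ N) (h1 : i + 1 ≠ j)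
    (h2 : j + 1 ≠ i) {X Y : Matrix (Fin N) (Fin N) F} (hX : IsUpU X) (hXb : IsBlkU i X)
    (hY : IsUpU Y) (hYb : IsBlkU j Y) (hij : i ≠ j) : X * Y = Y * X := by
  apply comm_of_mul_zero
  · ext a c
    rw [Matrix.mul_apply, Matrix.zero_apply]
    apply Finset.sum_eq_zero
    intro b _
    by_contra hne
    have h1 := sub_one_ne_up hX hXb (left_ne_zero_of_mul hne)
    have h2 := sub_one_ne_up hY hYb (right_ne_zero_of_mul hne)
    have ha := a.2
    have hb := b.2
    have hc := c.2
    obtain ⟨h1a, h1b⟩ := h1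
    obtain ⟨h2a, h2b⟩ := h2
    rw [Fin.lt_def] at h1a h2a
    unfold blk at h1b h2b
    omega
  · ext a c
    rw [Matrix.mul_apply, Matrix.zero_apply]
    apply Finset.sum_eq_zero
    intro b _
    by_contra hne
    have h1 := sub_one_ne_up hY hYb (left_ne_zero_of_mul hne)
    have h2 := sub_one_ne_up hX hXb (right_ne_zero_of_mul hne)
    have ha := a.2
    have hb := b.2
    have hc := c.2
    obtain ⟨h1a, h1b⟩ := h1
    obtain ⟨h2a, h2b⟩ := h2
    rw [Fin.lt_def] at h1a h2a
    unfold blk at h1b h2b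
    omega

/-- the positive root elements of a node with blocks of size two commute -/
theorem up_self_comm {i : ℕ} (hi : 2 * i + 2 ≤ N) (hodd : 2 * i + 3 ≠ N)
    {X Y : Matrix (Fin N) (Fin N) F} (hX : IsUpU X) (hXb : IsBlkU i X)
    (hY : IsUpU Y) (hYb : IsBlkU i Y) : X * Y = Y * X := by
  apply comm_of_mul_zero
  · ext a c
    rw [Matrix.mul_apply, Matrix.zero_apply]
    apply Finset.sum_eq_zero
    intro b _
    by_contra hne
    have h1 := sub_one_ne_up hX hXb (left_ne_zero_of_mul hne)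
    have h2 := sub_one_ne_up hY hYb (right_ne_zero_of_mul hne)
    have ha := a.2
    have hb := b.2
    have hc := c.2
    obtain ⟨h1a, h1b⟩ := h1
    obtain ⟨h2a, h2b⟩ := h2
    rw [Fin.lt_def] at h1a h2a
    unfold blk at h1b h2b
    omega
  · ext a c
    rw [Matrix.mul_apply, Matrix.zero_apply]
    apply Finset.sum_eq_zero
    intro b _
    by_contra hne
    have h1 := sub_one_ne_up hY hYb (left_ne_zero_of_mul hne)
    have h2 := sub_one_ne_up hX hXb (right_ne_zero_of_mul hne)
    have ha := a.2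
    have hb := b.2
    have hc := c.2
    obtain ⟨h1a, h1b⟩ := h1
    obtain ⟨h2a, h2b⟩ := h2
    rw [Fin.lt_def] at h1a h2a
    unfold blk at h1b h2b
    omega

end Cfsg.Agent.Lib.Helper5.AutSU
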