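import Cfsg.Agent.Lib.Helper5.AutSU.Facts7
import Cfsg.Agent.Lib.Helper8.AutSp.PathAut
import Mathlib

/-!
# The special unitary group: the normal form of an automorphism of the central quotient (helper5)

Every automorphism of the central quotient of the special unitary group is, after composition
with an inner automorphism, one which fixes the images of `U`, `V`, `B` and of every fundamental
root subgroup.
-/

set_option autoImplicit false

namespace Cfsg.Agent.Lib.Helper5.AutSU

open Matrix Cfsg Cfsg.Agent.Lib.Helper5.GLBN Cfsg.Agent.Lib.Helper8.SpBN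
open Cfsg.Agent.Lib.Helper8.Tw Cfsg.Agent.PSUT Cfsg.Agent.Lib.Helper8.AutSp
open scoped MatrixGroups

/-- the images of two subgroups commute elementwise -/
def CommIm {G Q : Type*} [Group G] [Group Q] (f : G →* Q) (A B : Subgroup G) : Prop :=
  ∀ x ∈ A.map f, ∀ y ∈ B.map f, x * y = y * x

theorem commIm_transport {G Q : Type*} [Group G] [Group Q] (f : G →* Q) (τ : Q ≃* Q)
    {A B A' B' : Subgroup G} (hA : (A.map f).map τ.toMonoidHom = A'.map f)
    (hB : (B.map f).map τ.toMonoidHom = B'.map f) : CommIm f A B ↔ CommIm f A' B' := by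
  constructor
  · intro h x hx y hy
    rw [← hA] at hx
    rw [← hB] at hy
    obtain ⟨x0, hx0, rfl⟩ := hx
    obtain ⟨y0, hy0, rfl⟩ := hy
    show τ x0 * τ y0 = τ y0 * τ x0
    rw [← map_mul, ← map_mul, h x0 hx0 y0 hy0]
  · intro h x hx y hy
    apply τ.injective
    rw [map_mul, map_mul]
    apply h
    · rw [← hA]
      exact ⟨x, hx, rfl⟩
    · rw [← hB]
      exact ⟨y, hy, rfl⟩

theorem commIm_of_comm {G Q : Type*} [Group G] [Group Q] (f : G →* Q) {A B : Subgroup G}
    (h : ∀ x ∈ A, ∀ y ∈ B, x * y = y * x) : CommIm f A B := by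
  rintro _ ⟨x, hx, rfl⟩ _ ⟨y, hy, rfl⟩
  rw [← map_mul, ← map_mul, h x hx y hy]

theorem commIm_symm {G Q : Type*} [Group G] [Group Q] (f : G →* Q) {A B : Subgroup G}
    (h : CommIm f A B) : CommIm f B A := fun y hy x hx => (h x hx y hy).symm

section

variable {N : ℕ} {F : Type*} [Field F] [Fintype F] {φ : F →+* F} {q : ℕ}

theorem Ctx.not_commIm (C : Ctx N F φ q) {Q : Type*} [Group Q] (f : SUm N F φ →* Q)
    (hker : f.ker = Subgroup.center (SUm N F φ)) {A B : Subgroup (SUm N F φ)}
    (hA : A ≤ UU N F φ) (hB : B ≤ UU N F φ) (h : ∃ x ∈ A, ∃ y ∈ B, x * y ≠ y * x) :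
    ¬ CommIm f A B := by
  intro hc
  obtain ⟨x, hx, y, hy, hne⟩ := h
  apply hne
  apply C.f_inj_UU f hker (mul_mem (hA hx) (hB hy)) (mul_mem (hB hy) (hA hx))
  rw [map_mul, map_mul]
  exact hc _ (Subgroup.mem_map_of_mem f hx) _ (Subgroup.mem_map_of_mem f hy)

/-- the images of the positive root subgroups of two distinct nodes commute exactly when the
nodes are not adjacent -/
theorem Ctx.commIm_iff (C : Ctx N F φ q) {Q : Type*} [Group Q] (f : SUm N F φ →* Q)
    (hker : f.ker = Subgroup.center (SUm N F φ)) (i j : Fin (N / 2)) (hij : i ≠ j) :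
    CommIm f (Xp N F φ (i : ℕ)) (Xp N F φ (j : ℕ)) ↔ ¬ PAdj i j := by
  have hi := i.2
  have hj := j.2
  constructor
  · intro hc hadj
    rcases hadj with h | h
    · have h1 : (i : ℕ) + 1 < N / 2 := by omega
      have h2 := C.adj_ncomm h1
      rw [h] at h2
      exact C.not_commIm f hker (Xp_le_UU _) (Xp_le_UU _) h2 hc
    · have h1 : (j : ℕ) + 1 < N / 2 := by omega
      have h2 := C.adj_ncomm h1
      rw [h] at h2
      exact C.not_commIm f hker (Xp_le_UU _) (Xp_le_UU _) h2 (commIm_symm f hc)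
  · intro hn
    apply commIm_of_comm
    intro x hx y hy
    have hi2 : 2 * (i : ℕ) + 2 ≤ N := by omega
    have hj2 : 2 * (j : ℕ) + 2 ≤ N := by omega
    obtain ⟨hx1, hx2⟩ := (mem_Xp hi2).1 hx
    obtain ⟨hy1, hy2⟩ := (mem_Xp hj2).1 hy
    apply gl_injective
    apply Units.ext
    rw [gl_mul, gl_mul, Units.val_mul, Units.val_mul]
    apply up_up_comm hi2 hj2 _ _ hx1 hx2 hy1 hy2
    · intro e
      exact hij (Fin.ext e)
    · intro e
      exact hn (Or.inl e)
    · intro e
      exact hn (Or.inr e)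

theorem xS_apply_self (φ : F →+* F) (a b : Fin N) (hab : a ≠ b) (hb : b ≠ b.rev)
    (h1 : b.rev ≠ a) (c : F) :
    ((xS φ a b hab c : GL (Fin N) F) : Matrix (Fin N) (Fin N) F) a b = c := by
  rw [xS_apply φ a b hab hb]
  simp [hab, h1]

theorem Ctx.card_le_Xp_short (C : Ctx N F φ q) {j : ℕ} (hj : 2 * j + 4 ≤ N) :
    Nat.card F ≤ Nat.card (Xp N F φ j) := by
  apply Nat.card_le_card_of_injective
    (fun t : F => (⟨xpS C.inv j hj t, xpS_mem_Xp C.inv j hj t⟩ : Xp N F φ j))
  intro t t' h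
  have h1 := congrArg (fun g : Xp N F φ j =>
    ((gl (g : SUm N F φ) : GL (Fin N) F) : Matrix (Fin N) (Fin N) F)
      (⟨j, by omega⟩ : Fin N) ⟨j + 1, by omega⟩) h
  simp only [gl_xpS] at h1
  rw [xS_apply_self φ _ _ _ (fin_ne (by rw [val_rev_mk]; simp only; omega))
      (fin_ne (by rw [val_rev_mk]; simp only; omega)),
    xS_apply_self φ _ _ _ (fin_ne (by rw [val_rev_mk]; simp only; omega))
      (fin_ne (by rw [val_rev_mk]; simp only; omega))] at h1
  exact h1

theorem Ctx.card_Xp_even_lt (C : Ctx N F φ q) {j : ℕ} (hj : 2 * j + 2 = N) :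
    Nat.card (Xp N F φ j) < Nat.card F := by
  classical
  have hk : j < N := by omega
  have hne : (⟨j, hk⟩ : Fin N) ≠ (⟨j, hk⟩ : Fin N).rev :=
    fin_ne (by rw [val_rev_mk]; simp only; omega)
  obtain ⟨w, hw⟩ := C.exists_trace_ne
  haveI : Fintype (Xp N F φ j) := Fintype.ofFinite _
  rw [Nat.card_eq_fintype_card, Nat.card_eq_fintype_card]
  apply Fintype.card_lt_of_injective_of_notMem (fun g : Xp N F φ j =>
    ((gl (g : SUm N F φ) : GL (Fin N) F) : Matrix (Fin N) (Fin N) F)
      ⟨j, hk⟩ (⟨j, hk⟩ : Fin N).rev) (b := w)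
  · intro g g' h
    have h' : ((gl (g : SUm N F φ) : GL (Fin N) F) : Matrix (Fin N) (Fin N) F)
        ⟨j, hk⟩ (⟨j, hk⟩ : Fin N).rev
        = ((gl (g' : SUm N F φ) : GL (Fin N) F) : Matrix (Fin N) (Fin N) F)
          ⟨j, hk⟩ (⟨j, hk⟩ : Fin N).rev := h
    apply Subtype.ext
    apply gl_injective
    exact ((C.even_param hj hk hne g.2).1.trans (congrArg (tv _ _ hne) h')).trans
      (C.even_param hj hk hne g'.2).1.symm
  · rintro ⟨g, hg⟩
    apply hw
    rw [← hg]
    exact (C.even_param hj hk hne g.2).2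

theorem Ctx.card_map_Xp (C : Ctx N F φ q) {Q : Type*} [Group Q] (f : SUm N F φ →* Q)
    (hker : f.ker = Subgroup.center (SUm N F φ)) (j : ℕ) :
    Nat.card ((Xp N F φ j).map f) = Nat.card (Xp N F φ j) := by
  symm
  apply Nat.card_congr
  refine Equiv.ofBijective (fun x : Xp N F φ j =>
    (⟨f x, Subgroup.mem_map_of_mem f x.2⟩ : (Xp N F φ j).map f)) ⟨?_, ?_⟩
  · intro x y h
    have h' : f x = f y := congrArg Subtype.val h
    exact Subtype.ext (C.f_inj_UU f hker (Xp_le_UU j x.2) (Xp_le_UU j y.2) h')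
  · rintro ⟨_, x, hx, rfl⟩
    exact ⟨⟨x, hx⟩, rfl⟩

/-- the first and the last node are not exchanged -/
theorem Ctx.not_rev (C : Ctx N F φ q) {Q : Type*} [Group Q] (f : SUm N F φ →* Q)
    (hker : f.ker = Subgroup.center (SUm N F φ)) (τ : Q ≃* Q) (hl : 2 ≤ N / 2)
    (H : ((Xp N F φ 0).map f).map τ.toMonoidHom = (Xp N F φ (N / 2 - 1)).map f) : False := by
  rcases Nat.even_or_odd' N with ⟨k, hk | hk⟩
  · -- even dimension: the orders differ
    have h1 : 2 * (N / 2 - 1) + 2 = N := by omega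
    have h2 := C.card_Xp_even_lt h1
    have h3 := C.card_le_Xp_short (j := 0) (by omega)
    have h4 : Nat.card (((Xp N F φ 0).map f).map τ.toMonoidHom)
        = Nat.card ((Xp N F φ 0).map f) :=
      Subgroup.card_map_of_injective (f := τ.toMonoidHom) τ.injective
    rw [H, C.card_map_Xp f hker, C.card_map_Xp f hker] at h4
    omega
  · -- odd dimension: one is abelian and the other one is not
    have h1 : 2 * (N / 2 - 1) + 3 = N := by omega
    have h2 := C.odd_ncomm h1
    have h3 : CommIm f (Xp N F φ 0) (Xp N F φ 0) := by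
      apply commIm_of_comm
      intro x hx y hy
      obtain ⟨hx1, hx2⟩ := (mem_Xp (j := 0) (by omega)).1 hx
      obtain ⟨hy1, hy2⟩ := (mem_Xp (j := 0) (by omega)).1 hy
      apply gl_injective
      apply Units.ext
      rw [gl_mul, gl_mul, Units.val_mul, Units.val_mul]
      exact up_self_comm (i := 0) (by omega) (by omega) hx1 hx2 hy1 hy2
    exact C.not_commIm f hker (Xp_le_UU _) (Xp_le_UU _) h2
      ((commIm_transport f τ H H).1 h3)

/-- **The normal form.**  Every automorphism of the central quotient of the special unitary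
group is, up to an inner automorphism, one which fixes the images of `U`, `V`, `B` and of all
fundamental root subgroups. -/
theorem Ctx.su_normal_form (C : Ctx N F φ q) (p : ℕ) [Fact p.Prime] [CharP F p] {Q : Type*}
    [Group Q] (f : SUm N F φ →* Q) (hf : Function.Surjective f)
    (hker : f.ker = Subgroup.center (SUm N F φ)) (θ : Q ≃* Q) :
    ∃ x : Q,
      ((UU N F φ).map f).map (θ.trans (MulAut.conj x⁻¹)).toMonoidHom = (UU N F φ).map f ∧
      ((VV N F φ).map f).map (θ.trans (MulAut.conj x⁻¹)).toMonoidHom = (VV N F φ).map f ∧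
      ((BB N F φ).map f).map (θ.trans (MulAut.conj x⁻¹)).toMonoidHom = (BB N F φ).map f ∧
      (∀ j, j < N / 2 → ((Xp N F φ j).map f).map (θ.trans (MulAut.conj x⁻¹)).toMonoidHom
        = (Xp N F φ j).map f) ∧
      (∀ j, j < N / 2 → ((Xm N F φ j).map f).map (θ.trans (MulAut.conj x⁻¹)).toMonoidHom
        = (Xm N F φ j).map f) := by
  haveI : Finite Q := Finite.of_surjective f hf
  have hj2 : ∀ i : Fin (N / 2), 2 * (i : ℕ) + 2 ≤ N := fun i => by have := i.2; omega
  obtain ⟨x, ρ, hU, hV, hB, -, hXp, hXm⟩ := exists_normal_form_push C.P f hf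
    (by rw [hker]; exact C.center_le_B) p
    (fun i : Fin (N / 2) => C.sN (i : ℕ)) (UU N F φ) (VV N F φ) C.n0
    (fun i : Fin (N / 2) => Xp N F φ (i : ℕ)) (fun i : Fin (N / 2) => Xm N F φ (i : ℕ))
    C.sN_injective C.range_sN (isPGroup_UU p) (C.index_UU p)
    (by rw [C.P_B]; exact UU_normal) (by rw [C.P_B]; exact UU_le_BB)
    C.exists_TU (by rw [hker]; exact C.UU_inf_center) C.cj_n0_UU C.cj_n0_VV
    (by rw [C.P_B]; exact BB_inf_VV) C.hopp
    (fun i => C.Xm_eq i.2) (fun i => C.cj_n0_Xm (hj2 i))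
    (by
      intro i j hij x hx y hy
      obtain ⟨hx1, hx2⟩ := (mem_Xp (hj2 i)).1 hx
      obtain ⟨hy1, hy2⟩ := (mem_Xm (hj2 j)).1 hy
      apply gl_injective
      apply Units.ext
      rw [gl_mul, gl_mul, Units.val_mul, Units.val_mul]
      exact up_lo_comm (hj2 i) (hj2 j) (fun e => hij (Fin.ext e)) hx1 hx2 hy1 hy2)
    (fun i => C.hncomm f hker i.2) θ
  have hadj : ∀ i j : Fin (N / 2), PAdj (ρ i) (ρ j) ↔ PAdj i j := by
    intro i j
    by_cases hij : i = j
    · subst hij
      unfold PAdj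
      omega
    · have h1 := C.commIm_iff f hker i j hij
      have h2 := C.commIm_iff f hker (ρ i) (ρ j) (fun e => hij (ρ.injective e))
      have h3 := commIm_transport f (θ.trans (MulAut.conj x⁻¹)) (hXp i) (hXp j)
      rw [← not_iff_not, ← h2, ← h1]
      exact h3.symm
  have hρ : ρ = 1 := by
    rcases path_aut ρ hadj with h | h
    · exact h
    · by_cases hl : N / 2 ≤ 1
      · ext i
        have := i.2
        have := (ρ i).2
        rw [Equiv.Perm.one_apply]
        omega
      · exfalso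
        have hl2 : 2 ≤ N / 2 := by omega
        have H := hXp ⟨0, by omega⟩
        rw [h] at H
        have e : (((Fin.revPerm (⟨0, by omega⟩ : Fin (N / 2)) : Fin (N / 2)) : ℕ)) = N / 2 - 1 := by
          rw [Fin.revPerm_apply, Fin.val_rev]
        simp only [e] at H
        exact C.not_rev f hker (θ.trans (MulAut.conj x⁻¹)) hl2 H
  subst hρ
  refine ⟨x, hU, hV, ?_, fun j hj => hXp ⟨j, hj⟩, fun j hj => hXm ⟨j, hj⟩⟩
  rw [← C.P_B]
  exact hB

end

end Cfsg.Agent.Lib.Helper5.AutSU
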