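import Cfsg.Agent.Lib.Lead.PSUTransportE
import Cfsg.Agent.Lib.Helper8.Tw.UData
import Cfsg.Agent.Lib.Helper8.AutSp.Push
import Mathlib

/-!
# The special unitary group of the antidiagonal form: unipotent subgroups, blocks and root
subgroups (helper5)

The model is lead's `N1 N F φ`, the elements of determinant one of helper8's `UH N F φ`.
Node `j < N / 2` of the diagram has the blocks `{j, j + 1}` and `{N - 2 - j, N - 1 - j}`; for the
last node these merge into one block of size two (`N` even) or three (`N` odd).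
-/

set_option autoImplicit false

namespace Cfsg.Agent.Lib.Helper5.AutSU

open Matrix Cfsg Cfsg.Agent.Lib.Helper5.GLBN Cfsg.Agent.Lib.Helper8.SpBN
open Cfsg.Agent.Lib.Helper8.Tw Cfsg.Agent.PSUT
open scoped MatrixGroups

variable {N : ℕ} {F : Type*} [Field F] {φ : F →+* F}

/-- the model of the special unitary group -/
abbrev SUm (N : ℕ) (F : Type*) [Field F] (φ : F →+* F) : Type _ := ↥(N1 N F φ)

/-- the underlying matrix, as a homomorphism -/
def glHom (N : ℕ) (F : Type*) [Field F] (φ : F →+* F) : SUm N F φ →* GL (Fin N) F :=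
  (UH N F φ).subtype.comp (N1 N F φ).subtype

/-- the underlying matrix -/
def gl (g : SUm N F φ) : GL (Fin N) F := glHom N F φ g

theorem gl_mul (g h : SUm N F φ) : gl (g * h) = gl g * gl h := map_mul _ g h

theorem gl_one : gl (1 : SUm N F φ) = 1 := map_one _

theorem gl_inv (g : SUm N F φ) : gl g⁻¹ = (gl g)⁻¹ := map_inv _ g

theorem gl_injective : Function.Injective (gl : SUm N F φ → GL (Fin N) F) := by
  intro g h e
  exact Subtype.ext (Subtype.ext e)

theorem gl_mem_UH (g : SUm N F φ) : gl g ∈ UH N F φ := g.1.2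

theorem gl_det (g : SUm N F φ) : ((gl g : GL (Fin N) F) : Matrix (Fin N) (Fin N) F).det = 1 :=
  mem_N1.1 g.2

/-- an element of the model from a unitary matrix of determinant one -/
def mk1 (g : GL (Fin N) F) (hU : g ∈ UH N F φ)
    (hd : (g : Matrix (Fin N) (Fin N) F).det = 1) : SUm N F φ :=
  ⟨⟨g, hU⟩, mem_N1.2 hd⟩

theorem gl_mk1 (g : GL (Fin N) F) (hU : g ∈ UH N F φ)
    (hd : (g : Matrix (Fin N) (Fin N) F).det = 1) : gl (mk1 g hU hd) = g := rfl

/-! ### the blocks of a node -/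

/-- the positions `a` and `b` lie in one block of the node `j` -/
def blk (N j a b : ℕ) : Prop :=
  a = b ∨ (a + 1 = b ∧ (b = j + 1 ∨ b + j + 1 = N)) ∨ (b + 1 = a ∧ (a = j + 1 ∨ a + j + 1 = N)) ∨
    (a + 2 = b ∧ a = j ∧ 2 * j + 3 = N) ∨ (b + 2 = a ∧ b = j ∧ 2 * j + 3 = N)

instance (N j a b : ℕ) : Decidable (blk N j a b) := by
  unfold blk
  infer_instance

theorem blk_comm (N j a b : ℕ) : blk N j a b ↔ blk N j b a := by
  unfold blk
  omega

theorem blk_self (N j a : ℕ) : blk N j a a := Or.inl rfl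

/-- the entries below the diagonal vanish outside the blocks of the node `j` -/
def IsBlk (j : ℕ) (M : Matrix (Fin N) (Fin N) F) : Prop :=
  ∀ a b : Fin N, b < a → ¬ blk N j a b → M a b = 0

theorem isBlk_one (j : ℕ) : IsBlk j (1 : Matrix (Fin N) (Fin N) F) := by
  intro a b hba _
  exact Matrix.one_apply_ne (ne_of_gt hba)

theorem IsBlk.mul {j : ℕ} (hj : 2 * j + 2 ≤ N) {M M' : Matrix (Fin N) (Fin N) F}
    (h : IsBlk j M) (h' : IsBlk j M') : IsBlk j (M * M') := by
  intro a b hba hn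
  rw [Matrix.mul_apply]
  apply Finset.sum_eq_zero
  intro c _
  have hba' : (b : ℕ) < a := hba
  by_cases h1 : c < a ∧ ¬ blk N j a c
  · rw [h a c h1.1 h1.2, zero_mul]
  · by_cases h2 : b < c ∧ ¬ blk N j c b
    · rw [h' c b h2.1 h2.2, mul_zero]
    · exfalso
      rw [Fin.lt_def] at h1 h2
      unfold blk at h1 h2 hn
      omega

/-- the entries above the diagonal vanish outside the blocks of the node `j` -/
def IsBlkU (j : ℕ) (M : Matrix (Fin N) (Fin N) F) : Prop :=
  ∀ a b : Fin N, a < b → ¬ blk N j a b → M a b = 0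

/-! ### triangular and unitriangular elements -/

/-- upper triangular with ones on the diagonal -/
def IsUpU (M : Matrix (Fin N) (Fin N) F) : Prop :=
  (∀ a b : Fin N, b < a → M a b = 0) ∧ ∀ a, M a a = 1

/-- lower triangular with ones on the diagonal -/
def IsLoU (M : Matrix (Fin N) (Fin N) F) : Prop :=
  (∀ a b : Fin N, a < b → M a b = 0) ∧ ∀ a, M a a = 1

theorem isUpU_one : IsUpU (1 : Matrix (Fin N) (Fin N) F) :=
  ⟨fun _ _ h => Matrix.one_apply_ne (ne_of_gt h), fun _ => Matrix.one_apply_eq _⟩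

theorem isLoU_one : IsLoU (1 : Matrix (Fin N) (Fin N) F) :=
  ⟨fun _ _ h => Matrix.one_apply_ne (ne_of_lt h), fun _ => Matrix.one_apply_eq _⟩

theorem IsUpU.mul {M M' : Matrix (Fin N) (Fin N) F} (h : IsUpU M) (h' : IsUpU M') :
    IsUpU (M * M') := by
  constructor
  · intro a b hba
    rw [Matrix.mul_apply]
    apply Finset.sum_eq_zero
    intro c _
    by_cases hc : c < a
    · rw [h.1 a c hc, zero_mul]
    · rw [h'.1 c b (lt_of_lt_of_le hba (not_lt.1 hc)), mul_zero]
  · intro a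
    rw [Matrix.mul_apply, Finset.sum_eq_single a]
    · rw [h.2, h'.2, mul_one]
    · intro c _ hc
      rcases lt_or_gt_of_ne hc with hc | hc
      · rw [h.1 a c hc, zero_mul]
      · rw [h'.1 c a hc, mul_zero]
    · intro hh
      exact absurd (Finset.mem_univ _) hh

theorem IsLoU.mul {M M' : Matrix (Fin N) (Fin N) F} (h : IsLoU M) (h' : IsLoU M') :
    IsLoU (M * M') := by
  constructor
  · intro a b hab
    rw [Matrix.mul_apply]
    apply Finset.sum_eq_zero
    intro c _
    by_cases hc : a < c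
    · rw [h.1 a c hc, zero_mul]
    · rw [h'.1 c b (lt_of_le_of_lt (not_lt.1 hc) hab), mul_zero]
  · intro a
    rw [Matrix.mul_apply, Finset.sum_eq_single a]
    · rw [h.2, h'.2, mul_one]
    · intro c _ hc
      rcases lt_or_gt_of_ne hc with hc | hc
      · rw [h'.1 c a hc, mul_zero]
      · rw [h.1 a c hc, zero_mul]
    · intro hh
      exact absurd (Finset.mem_univ _) hh

/-- a subgroup of a finite group from a multiplicatively closed set containing one -/
def subgroupOfMul {G : Type*} [Group G] [Finite G] (S : Set G) (h1 : (1 : G) ∈ S)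
    (hmul : ∀ a b, a ∈ S → b ∈ S → a * b ∈ S) : Subgroup G where
  carrier := S
  mul_mem' := fun ha hb => hmul _ _ ha hb
  one_mem' := h1
  inv_mem' := by
    intro g hg
    have hpow : ∀ k : ℕ, g ^ k ∈ S := by
      intro k
      induction k with
      | zero => rw [pow_zero]; exact h1
      | succ k ih => rw [pow_succ]; exact hmul _ _ ih hg
    have hpos : 0 < orderOf g := orderOf_pos g
    have e : g⁻¹ = g ^ (orderOf g - 1) := by
      rw [inv_eq_iff_mul_eq_one, ← pow_succ', Nat.sub_add_cancel hpos, pow_orderOf_eq_one]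
    show g⁻¹ ∈ S
    rw [e]
    exact hpow _

theorem mem_subgroupOfMul {G : Type*} [Group G] [Finite G] (S : Set G) (h1 : (1 : G) ∈ S)
    (hmul : ∀ a b, a ∈ S → b ∈ S → a * b ∈ S) (g : G) :
    g ∈ subgroupOfMul S h1 hmul ↔ g ∈ S := Iff.rfl

theorem IsBlkU.mul {j : ℕ} (hj : 2 * j + 2 ≤ N) {M M' : Matrix (Fin N) (Fin N) F}
    (h : IsBlkU j M) (h' : IsBlkU j M') : IsBlkU j (M * M') := by
  intro a b hab hn
  rw [Matrix.mul_apply]
  apply Finset.sum_eq_zero
  intro c _
  have hab' : (a : ℕ) < b := hab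
  by_cases h1 : a < c ∧ ¬ blk N j a c
  · rw [h a c h1.1 h1.2, zero_mul]
  · by_cases h2 : c < b ∧ ¬ blk N j c b
    · rw [h' c b h2.1 h2.2, mul_zero]
    · exfalso
      rw [Fin.lt_def] at h1 h2
      unfold blk at h1 h2 hn
      omega

theorem isBlkU_one (j : ℕ) : IsBlkU j (1 : Matrix (Fin N) (Fin N) F) := by
  intro a b hab _
  exact Matrix.one_apply_ne (ne_of_lt hab)

/-! ### the subgroups -/

section fin

variable [Finite F]

/-- the upper triangular elements -/
def BB (N : ℕ) (F : Type*) [Field F] (φ : F →+* F) : Subgroup (SUm N F φ) :=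
  (upperTriangularGL N F).comap (glHom N F φ)

theorem mem_BB {g : SUm N F φ} :
    g ∈ BB N F φ ↔ ∀ a b : Fin N, b < a → (gl g : Matrix (Fin N) (Fin N) F) a b = 0 :=
  mem_upper

/-- the upper unitriangular elements -/
def UU (N : ℕ) (F : Type*) [Field F] [Finite F] (φ : F →+* F) : Subgroup (SUm N F φ) :=
  subgroupOfMul {g | IsUpU (gl g : Matrix (Fin N) (Fin N) F)}
    (by show IsUpU _; rw [gl_one]; exact isUpU_one)
    (fun a b ha hb => by
      show IsUpU _
      rw [gl_mul, Units.val_mul]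
      exact IsUpU.mul ha hb)

theorem mem_UU {g : SUm N F φ} :
    g ∈ UU N F φ ↔ IsUpU (gl g : Matrix (Fin N) (Fin N) F) := Iff.rfl

/-- the lower unitriangular elements -/
def VV (N : ℕ) (F : Type*) [Field F] [Finite F] (φ : F →+* F) : Subgroup (SUm N F φ) :=
  subgroupOfMul {g | IsLoU (gl g : Matrix (Fin N) (Fin N) F)}
    (by show IsLoU _; rw [gl_one]; exact isLoU_one)
    (fun a b ha hb => by
      show IsLoU _
      rw [gl_mul, Units.val_mul]
      exact IsLoU.mul ha hb)

theorem mem_VV {g : SUm N F φ} :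
    g ∈ VV N F φ ↔ IsLoU (gl g : Matrix (Fin N) (Fin N) F) := Iff.rfl

theorem UU_le_BB : UU N F φ ≤ BB N F φ := fun _ hg => mem_BB.2 (mem_UU.1 hg).1

theorem BB_inf_VV : BB N F φ ⊓ VV N F φ = ⊥ := by
  rw [eq_bot_iff]
  rintro g ⟨hB, hV⟩
  rw [Subgroup.mem_bot]
  apply gl_injective
  apply Units.ext
  rw [gl_one, Units.val_one]
  ext a b
  rcases lt_trichotomy a b with h | h | h
  · rw [(mem_VV.1 hV).1 a b h, Matrix.one_apply_ne (ne_of_lt h)]
  · rw [h, (mem_VV.1 hV).2, Matrix.one_apply_eq]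
  · rw [mem_BB.1 hB a b h, Matrix.one_apply_ne (ne_of_gt h)]

/-- the block upper triangular elements of the node `j` (the minimal parabolic subgroup) -/
def QQ (N : ℕ) (F : Type*) [Field F] [Finite F] (φ : F →+* F) (j : ℕ) : Subgroup (SUm N F φ) :=
  subgroupOfMul {g | 2 * j + 2 ≤ N → IsBlk j (gl g : Matrix (Fin N) (Fin N) F)}
    (fun _ => by rw [gl_one]; exact isBlk_one j)
    (fun a b ha hb hj => by
      rw [gl_mul, Units.val_mul]
      exact IsBlk.mul hj (ha hj) (hb hj))

theorem mem_QQ {j : ℕ} (hj : 2 * j + 2 ≤ N) {g : SUm N F φ} :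
    g ∈ QQ N F φ j ↔ IsBlk j (gl g : Matrix (Fin N) (Fin N) F) :=
  ⟨fun h => h hj, fun h _ => h⟩

theorem BB_le_QQ (j : ℕ) : BB N F φ ≤ QQ N F φ j := by
  intro g hg _ a b hba _
  exact mem_BB.1 hg a b hba

/-- the negative root subgroup of the node `j` -/
def Xm (N : ℕ) (F : Type*) [Field F] [Finite F] (φ : F →+* F) (j : ℕ) : Subgroup (SUm N F φ) :=
  QQ N F φ j ⊓ VV N F φ

theorem mem_Xm {j : ℕ} (hj : 2 * j + 2 ≤ N) {g : SUm N F φ} :
    g ∈ Xm N F φ j ↔ IsLoU (gl g : Matrix (Fin N) (Fin N) F) ∧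
      IsBlk j (gl g : Matrix (Fin N) (Fin N) F) := by
  unfold Xm
  rw [Subgroup.mem_inf, mem_QQ hj, mem_VV, and_comm]

/-- the positive root subgroup of the node `j` -/
def Xp (N : ℕ) (F : Type*) [Field F] [Finite F] (φ : F →+* F) (j : ℕ) : Subgroup (SUm N F φ) :=
  subgroupOfMul {g | IsUpU (gl g : Matrix (Fin N) (Fin N) F) ∧
      (2 * j + 2 ≤ N → IsBlkU j (gl g : Matrix (Fin N) (Fin N) F))}
    (by
      refine ⟨?_, fun _ => ?_⟩
      · rw [gl_one]; exact isUpU_one
      · rw [gl_one]; exact isBlkU_one j)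
    (fun a b ha hb => by
      refine ⟨?_, fun hj => ?_⟩
      · rw [gl_mul, Units.val_mul]
        exact IsUpU.mul ha.1 hb.1
      · rw [gl_mul, Units.val_mul]
        exact IsBlkU.mul hj (ha.2 hj) (hb.2 hj))

theorem mem_Xp {j : ℕ} (hj : 2 * j + 2 ≤ N) {g : SUm N F φ} :
    g ∈ Xp N F φ j ↔ IsUpU (gl g : Matrix (Fin N) (Fin N) F) ∧
      IsBlkU j (gl g : Matrix (Fin N) (Fin N) F) :=
  ⟨fun h => ⟨h.1, h.2 hj⟩, fun h => ⟨h.1, fun _ => h.2⟩⟩

theorem Xp_le_UU (j : ℕ) : Xp N F φ j ≤ UU N F φ := fun _ hg => mem_UU.2 hg.1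

theorem Xm_le_VV (j : ℕ) : Xm N F φ j ≤ VV N F φ := inf_le_right

end fin

/-! ### the root elements -/

/-- the short root elements `1 + c E_{ab} - φ(c) E_{b', a'}` -/
def xS (φ : F →+* F) (a b : Fin N) (hab : a ≠ b) (c : F) : GL (Fin N) F :=
  tv a b hab c * tv b.rev a.rev (fun h => hab (Fin.rev_injective h).symm) (-(φ c))

/-- the long root elements `1 + c E_{a a'}` -/
def xL (a : Fin N) (ha : a ≠ a.rev) (c : F) : GL (Fin N) F := tv a a.rev ha c

/-- the root elements of the last node for odd `N`: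
`1 + a E_{km} - φ(a) E_{mk'} + b E_{kk'}` with `m` the middle position -/
def xO (φ : F →+* F) (k m : Fin N) (hkm : k ≠ m) (hmk : m ≠ k.rev) (hk : k ≠ k.rev) (a b : F) :
    GL (Fin N) F :=
  tv m k.rev hmk (-(φ a)) * tv k m hkm a * tv k k.rev hk b

theorem det_tv (a b : Fin N) (hab : a ≠ b) (c : F) :
    ((tv a b hab c : GL (Fin N) F) : Matrix (Fin N) (Fin N) F).det = 1 := by
  rw [tv_coe]
  exact Matrix.det_transvection_of_ne a b hab c

theorem tv_apply (a b : Fin N) (hab : a ≠ b) (c : F) (i j : Fin N) :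
    ((tv a b hab c : GL (Fin N) F) : Matrix (Fin N) (Fin N) F) i j
      = (if i = j then 1 else 0) + if a = i ∧ b = j then c else 0 := by
  rw [tv_coe, transvection_apply]

theorem tv_congr3 {a a' b b' : Fin N} (ha : a = a') (hb : b = b') (h : a ≠ b)
    (h' : a' ≠ b') {c c' : F} (hc : c = c') : tv a b h c = tv a' b' h' c' := by
  subst ha hb hc; rfl

/-- the entries of the product of two transvections which do not compose -/
theorem tv_mul_tv_apply (a b a' b' : Fin N) (hab : a ≠ b) (hab' : a' ≠ b') (hne : b ≠ a') (c d : F)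
    (i j : Fin N) :
    ((tv a b hab c * tv a' b' hab' d : GL (Fin N) F) : Matrix (Fin N) (Fin N) F) i j
      = (if i = j then 1 else 0) + (if a = i ∧ b = j then c else 0)
        + if a' = i ∧ b' = j then d else 0 := by
  rw [Units.val_mul, tv_coe, tv_coe]
  unfold transvection
  rw [Matrix.add_mul, Matrix.mul_add, Matrix.mul_add, Matrix.one_mul, Matrix.mul_one,
    Matrix.one_mul, Matrix.single_mul_single_of_ne _ _ _ _ hne, add_zero, Matrix.add_apply,
    Matrix.add_apply, Matrix.one_apply, Matrix.single_apply, Matrix.single_apply]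
  ring

/-- the entries of the short root elements -/
theorem xS_apply (φ : F →+* F) (a b : Fin N) (hab : a ≠ b) (hb : b ≠ b.rev) (c : F) (i j : Fin N) :
    ((xS φ a b hab c : GL (Fin N) F) : Matrix (Fin N) (Fin N) F) i j
      = (if i = j then 1 else 0) + (if a = i ∧ b = j then c else 0)
        + if b.rev = i ∧ a.rev = j then -(φ c) else 0 := by
  unfold xS
  exact tv_mul_tv_apply a b b.rev a.rev hab _ hb c _ i j

theorem det_xS (φ : F →+* F) (a b : Fin N) (hab : a ≠ b) (c : F) :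
    ((xS φ a b hab c : GL (Fin N) F) : Matrix (Fin N) (Fin N) F).det = 1 := by
  unfold xS
  rw [Units.val_mul, Matrix.det_mul, det_tv, det_tv, mul_one]

theorem det_xL (a : Fin N) (ha : a ≠ a.rev) (c : F) :
    ((xL a ha c : GL (Fin N) F) : Matrix (Fin N) (Fin N) F).det = 1 := det_tv _ _ _ _

/-- the short root elements are unitary -/
theorem xS_mem_UH (hφ : ∀ x, φ (φ x) = x) (a b : Fin N) (hab : a ≠ b) (h1 : a ≠ b.rev)
    (h2 : a ≠ a.rev) (h3 : b ≠ b.rev) (c : F) : xS φ a b hab c ∈ UH N F φ := by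
  rw [mem_UH]
  unfold xS
  rw [map_mul, usig_tv, usig_tv, map_neg, neg_neg, hφ]
  have e3 : tv a.rev.rev b.rev.rev
      (fun h => hab (by rw [Fin.rev_rev, Fin.rev_rev] at h; exact h)) c = tv a b hab c :=
    tv_congr (Fin.rev_rev a) (Fin.rev_rev b) _ _ _
  rw [e3]
  apply commute_of_suppOn _ (suppOn_tv _ _ _ _) (suppOn_tv _ _ _ _)
  rw [Set.disjoint_left]
  intro x hx hx'
  rw [Set.mem_insert_iff, Set.mem_singleton_iff] at hx hx'
  rcases hx with hx | hx <;> rcases hx' with hx' | hx'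
  · exact h1 (hx'.symm.trans hx)
  · exact h3 (hx'.symm.trans hx)
  · exact h2 (hx'.symm.trans hx)
  · apply h1
    rw [(hx'.symm.trans hx : b = a.rev), Fin.rev_rev]

/-- the long root elements are unitary -/
theorem xL_mem_UH (a : Fin N) (ha : a ≠ a.rev) (c : F) (hc : c + φ c = 0) :
    xL a ha c ∈ UH N F φ := by
  rw [mem_UH]
  unfold xL
  rw [usig_tv]
  have hc' : -(φ c) = c := by
    rw [neg_eq_iff_add_eq_zero, add_comm]
    exact hc
  exact tv_congr3 (Fin.rev_rev a) rfl _ _ hc'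

end Cfsg.Agent.Lib.Helper5.AutSU
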