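import Cfsg.Agent.Lib.Helper5.AutSU.Torus
import Mathlib

/-!
# The special unitary group: the elements of the fundamental root subgroups (helper5)
-/

set_option autoImplicit false

namespace Cfsg.Agent.Lib.Helper5.AutSU

open Matrix Cfsg Cfsg.Agent.Lib.Helper5.GLBN Cfsg.Agent.Lib.Helper8.SpBN
open Cfsg.Agent.Lib.Helper8.Tw Cfsg.Agent.PSUT
open scoped MatrixGroups

section entries

variable {N : ℕ} {F : Type*} [Field F]

/-- a matrix with at most two entries off the diagonal is a product of two transvections -/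
theorem eq_tv2 (g : GL (Fin N) F) (x y x' y' : Fin N) (hxy : x ≠ y) (hxy' : x' ≠ y')
    (hne : y ≠ x') (hd : ∀ i, (g : Matrix (Fin N) (Fin N) F) i i = 1)
    (h0 : ∀ i j, i ≠ j → ¬(x = i ∧ y = j) → ¬(x' = i ∧ y' = j) →
      (g : Matrix (Fin N) (Fin N) F) i j = 0)
    (hdist : ¬(x = x' ∧ y = y')) :
    g = tv x y hxy ((g : Matrix (Fin N) (Fin N) F) x y)
      * tv x' y' hxy' ((g : Matrix (Fin N) (Fin N) F) x' y') := by
  apply Units.ext
  ext i j
  rw [tv_mul_tv_apply x y x' y' hxy hxy' hne]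
  by_cases hij : i = j
  · subst hij
    rw [hd, if_pos rfl, if_neg, if_neg, add_zero, add_zero]
    · rintro ⟨h1, h2⟩
      exact hxy' (h1.trans h2.symm)
    · rintro ⟨h1, h2⟩
      exact hxy (h1.trans h2.symm)
  · rw [if_neg hij, zero_add]
    by_cases h1 : x = i ∧ y = j
    · obtain ⟨rfl, rfl⟩ := h1
      rw [if_pos ⟨rfl, rfl⟩, if_neg (fun h => hdist ⟨h.1.symm, h.2.symm⟩), add_zero]
    · rw [if_neg h1, zero_add]
      by_cases h2 : x' = i ∧ y' = j
      · obtain ⟨rfl, rfl⟩ := h2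
        rw [if_pos ⟨rfl, rfl⟩]
      · rw [if_neg h2]
        exact h0 i j hij h1 h2

/-- the entries of a product of three transvections in the positions `(m, e)`, `(k, m)`,
`(k, e)` -/
theorem tv3_apply (k m e : Fin N) (hkm : k ≠ m) (hme : m ≠ e) (hke : k ≠ e) (c a b : F)
    (i j : Fin N) :
    ((tv m e hme c * tv k m hkm a * tv k e hke b : GL (Fin N) F) :
        Matrix (Fin N) (Fin N) F) i j
      = (if i = j then 1 else 0) + (if k = i ∧ e = j then b else 0)
        + (if k = i ∧ m = j then a else 0) + (if m = i ∧ e = j then c else 0) := by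
  rw [Units.val_mul, Units.val_mul, Matrix.mul_assoc]
  simp only [tv_mul_apply, tv_apply]
  have hme' : e ≠ m := hme.symm
  have hke' : e ≠ k := hke.symm
  have hmk2 : m ≠ k := hkm.symm
  by_cases h1 : i = k
  · subst h1
    simp [hkm, hke, hmk2, hme]
  · by_cases h2 : i = m
    · subst h2
      simp [hmk2, hme', hke', hme, h1, hkm, hke]
    · have h1' : k ≠ i := fun e => h1 e.symm
      have h2' : m ≠ i := fun e => h2 e.symm
      simp [h1, h2, h1', h2']

/-- a matrix with at most three entries off the diagonal, in the positions `(m, e)`, `(k, m)`,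
`(k, e)`, is a product of three transvections -/
theorem eq_tv3 (g : GL (Fin N) F) (k m e : Fin N) (hkm : k ≠ m) (hme : m ≠ e) (hke : k ≠ e)
    (hd : ∀ i, (g : Matrix (Fin N) (Fin N) F) i i = 1)
    (h0 : ∀ i j, i ≠ j → ¬(k = i ∧ e = j) → ¬(k = i ∧ m = j) → ¬(m = i ∧ e = j) →
      (g : Matrix (Fin N) (Fin N) F) i j = 0) :
    g = tv m e hme ((g : Matrix (Fin N) (Fin N) F) m e)
      * tv k m hkm ((g : Matrix (Fin N) (Fin N) F) k m)
      * tv k e hke ((g : Matrix (Fin N) (Fin N) F) k e) := by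
  apply Units.ext
  ext i j
  rw [tv3_apply]
  by_cases hij : i = j
  · subst hij
    rw [hd, if_pos rfl, if_neg, if_neg, if_neg, add_zero, add_zero, add_zero]
    · rintro ⟨h1, h2⟩
      exact hme (h1.trans h2.symm)
    · rintro ⟨h1, h2⟩
      exact hkm (h1.trans h2.symm)
    · rintro ⟨h1, h2⟩
      exact hke (h1.trans h2.symm)
  · rw [if_neg hij, zero_add]
    by_cases h1 : k = i ∧ e = j
    · obtain ⟨rfl, rfl⟩ := h1
      rw [if_pos ⟨rfl, rfl⟩, if_neg (fun h => hme h.2), if_neg (fun h => hkm h.1.symm),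
        add_zero, add_zero]
    · rw [if_neg h1, zero_add]
      by_cases h2 : k = i ∧ m = j
      · obtain ⟨rfl, rfl⟩ := h2
        rw [if_pos ⟨rfl, rfl⟩, if_neg (fun h => hkm h.1.symm), add_zero]
      · rw [if_neg h2, zero_add]
        by_cases h3 : m = i ∧ e = j
        · obtain ⟨rfl, rfl⟩ := h3
          rw [if_pos ⟨rfl, rfl⟩]
        · rw [if_neg h3]
          exact h0 i j hij h1 h2 h3

variable {φ : F →+* F}

/-- the unitarity of a long root element -/
theorem tv1_unitary (a : Fin N) (ha : a ≠ a.rev) (c : F) (h : tv a a.rev ha c ∈ UH N F φ) :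
    c + φ c = 0 := by
  rw [mem_UH, usig_tv' φ _ _ _ _ ha (Fin.rev_rev _) rfl ha] at h
  have h1 := congrArg (fun x : GL (Fin N) F => (x : Matrix (Fin N) (Fin N) F) a a.rev) h
  simp only [tv_apply_self] at h1
  linear_combination (-1 : F) * h1

/-- the unitarity of a product of two transvections in the positions of a short root -/
theorem tv2_unitary (hφ : ∀ x, φ (φ x) = x) (a b : Fin N) (hab : a ≠ b) (h1 : a ≠ b.rev)
    (h2 : a ≠ a.rev) (h3 : b ≠ b.rev) (t s : F)
    (h : tv a b hab t * tv b.rev a.rev (fun e => hab (Fin.rev_injective e).symm) s ∈ UH N F φ) :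
    s = -(φ t) := by
  have hab' : b.rev ≠ a.rev := fun e => hab (Fin.rev_injective e).symm
  rw [mem_UH, map_mul, usig_tv' φ a b b.rev a.rev hab rfl rfl hab',
    usig_tv' φ b.rev a.rev a b hab' (Fin.rev_rev a) (Fin.rev_rev b) hab] at h
  have e1 := congrArg (fun x : GL (Fin N) F => (x : Matrix (Fin N) (Fin N) F) a b) h
  rw [tv_mul_tv_apply b.rev a.rev a b hab' hab (fun e => h2 e.symm),
    tv_mul_tv_apply a b b.rev a.rev hab hab' h3] at e1
  have h1' : b.rev ≠ a := fun e => h1 e.symm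
  simp [hab, h1'] at e1
  -- `e1 : -φ s = t`
  have e2 : φ t = -s := by rw [← e1, map_neg, hφ]
  rw [e2, neg_neg]

/-- the unitarity of a product of three transvections in the positions of the last node in odd
dimension -/
theorem tv3_unitary (hφ : ∀ x, φ (φ x) = x) (k m : Fin N) (hkm : k ≠ m) (hmk : m ≠ k.rev)
    (hk : k ≠ k.rev) (hm : m.rev = m) (c a b : F)
    (h : tv m k.rev hmk c * tv k m hkm a * tv k k.rev hk b ∈ UH N F φ) :
    c = -(φ a) ∧ b + φ b + a * φ a = 0 := by
  rw [mem_UH, map_mul, map_mul, usig_tv' φ m k.rev k m hmk (Fin.rev_rev k) hm hkm,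
    usig_tv' φ k m m k.rev hkm hm rfl hmk, usig_tv' φ k k.rev k k.rev hk (Fin.rev_rev k) rfl hk,
    tv_tv_comm3 k m k.rev hkm hmk hk, mul_assoc, tv_mul_tv] at h
  have e1 := congrArg (fun x : GL (Fin N) F => (x : Matrix (Fin N) (Fin N) F) m k.rev) h
  have e2 := congrArg (fun x : GL (Fin N) F => (x : Matrix (Fin N) (Fin N) F) k k.rev) h
  rw [tv3_apply, tv3_apply] at e1 e2
  have hmk' : k.rev ≠ m := hmk.symm
  have hk' : k.rev ≠ k := hk.symm
  have hmk2 : m ≠ k := hkm.symm
  simp [hkm, hmk, hmk2, hk', hmk'] at e1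
  simp [hkm, hk, hmk2, hmk, hmk', hk'] at e2
  -- `e1 : -φ a = c`, `e2 : -φ c * -φ a + -φ b = b`
  refine ⟨e1.symm, ?_⟩
  have e3 : φ c = -a := by rw [← e1, map_neg, hφ]
  rw [e3] at e2
  linear_combination (-1 : F) * e2

/-- a matrix with at most one entry off the diagonal is a transvection -/
theorem eq_tv1 (g : GL (Fin N) F) (x y : Fin N) (hxy : x ≠ y)
    (hd : ∀ i, (g : Matrix (Fin N) (Fin N) F) i i = 1)
    (h0 : ∀ i j, i ≠ j → ¬(x = i ∧ y = j) → (g : Matrix (Fin N) (Fin N) F) i j = 0) :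
    g = tv x y hxy ((g : Matrix (Fin N) (Fin N) F) x y) := by
  apply Units.ext
  ext i j
  rw [tv_apply]
  by_cases hij : i = j
  · subst hij
    rw [hd, if_pos rfl, if_neg, add_zero]
    rintro ⟨h1, h2⟩
    exact hxy (h1.trans h2.symm)
  · rw [if_neg hij, zero_add]
    by_cases h1 : x = i ∧ y = j
    · obtain ⟨rfl, rfl⟩ := h1
      rw [if_pos ⟨rfl, rfl⟩]
    · rw [if_neg h1]
      exact h0 i j hij h1

theorem xO_isLoU (φ : F →+* F) {k m : Fin N} (hkm : m < k) (hmk : k.rev < m) (a b : F) :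
    IsLoU ((xO φ k m (ne_of_gt hkm) (ne_of_gt hmk) (ne_of_gt (lt_trans hmk hkm)) a b :
      GL (Fin N) F) : Matrix (Fin N) (Fin N) F) := by
  unfold xO
  rw [Units.val_mul, Units.val_mul]
  exact ((tv_isLoU hmk _).mul (tv_isLoU hkm _)).mul (tv_isLoU (lt_trans hmk hkm) _)

theorem xO_isBlk (φ : F →+* F) {j : ℕ} (hj : 2 * j + 2 ≤ N) {k m : Fin N} (hkm : k ≠ m)
    (hmk : m ≠ k.rev) (hk : k ≠ k.rev) (h1 : blk N j k m) (h2 : blk N j m k.rev)
    (h3 : blk N j k k.rev) (a b : F) :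
    IsBlk j ((xO φ k m hkm hmk hk a b : GL (Fin N) F) : Matrix (Fin N) (Fin N) F) := by
  unfold xO
  rw [Units.val_mul, Units.val_mul]
  exact ((tv_isBlk hmk h2 _).mul hj (tv_isBlk hkm h1 _)).mul hj (tv_isBlk hk h3 _)

end entries

section grp

variable {N : ℕ} {F : Type*} [Field F] [Fintype F] {φ : F →+* F}

/-- the positive root elements of the last node in odd dimension -/
def xpO (hφ : ∀ x, φ (φ x) = x) (j : ℕ) (hj : 2 * j + 3 = N) (a b : F)
    (hb : b + φ b + a * φ a = 0) : SUm N F φ :=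
  mk1 (xO φ (⟨j, by omega⟩ : Fin N) ⟨j + 1, by omega⟩ (fin_ne (by simp))
      (fin_ne (by rw [val_rev_mk]; simp only; omega))
      (fin_ne (by rw [val_rev_mk]; simp only; omega)) a b)
    (xO_mem_UH φ hφ _ _ _ _ _ (by apply Fin.ext; rw [Fin.val_rev]; simp only; omega) a b hb)
    (det_xO _ _ _ _ _ _ _ _)

/-- the negative root elements of the last node in odd dimension -/
def xmO (hφ : ∀ x, φ (φ x) = x) (j : ℕ) (hj : 2 * j + 3 = N) (a b : F)
    (hb : b + φ b + a * φ a = 0) : SUm N F φ :=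
  mk1 (xO φ (⟨j + 2, by omega⟩ : Fin N) ⟨j + 1, by omega⟩ (fin_ne (by simp))
      (fin_ne (by rw [val_rev_mk]; simp only; omega))
      (fin_ne (by rw [val_rev_mk]; simp only; omega)) a b)
    (xO_mem_UH φ hφ _ _ _ _ _ (by apply Fin.ext; rw [Fin.val_rev]; simp only; omega) a b hb)
    (det_xO _ _ _ _ _ _ _ _)

theorem gl_xpO (hφ : ∀ x, φ (φ x) = x) (j : ℕ) (hj : 2 * j + 3 = N) (a b : F)
    (hb : b + φ b + a * φ a = 0) :
    gl (xpO hφ j hj a b hb) = xO φ (⟨j, by omega⟩ : Fin N) ⟨j + 1, by omega⟩ (fin_ne (by simp))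
      (fin_ne (by rw [val_rev_mk]; simp only; omega))
      (fin_ne (by rw [val_rev_mk]; simp only; omega)) a b := rfl

theorem gl_xmO (hφ : ∀ x, φ (φ x) = x) (j : ℕ) (hj : 2 * j + 3 = N) (a b : F)
    (hb : b + φ b + a * φ a = 0) :
    gl (xmO hφ j hj a b hb) = xO φ (⟨j + 2, by omega⟩ : Fin N) ⟨j + 1, by omega⟩
      (fin_ne (by simp)) (fin_ne (by rw [val_rev_mk]; simp only; omega))
      (fin_ne (by rw [val_rev_mk]; simp only; omega)) a b := rfl

theorem xpO_mem_Xp (hφ : ∀ x, φ (φ x) = x) (j : ℕ) (hj : 2 * j + 3 = N) (a b : F)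
    (hb : b + φ b + a * φ a = 0) : xpO hφ j hj a b hb ∈ Xp N F φ j := by
  have hk : j < N := by omega
  have hm : j + 1 < N := by omega
  have hkr : (((⟨j, hk⟩ : Fin N).rev : Fin N) : ℕ) = j + 2 := by
    rw [Fin.val_rev]
    simp only
    omega
  have hkm : (⟨j, hk⟩ : Fin N) < ⟨j + 1, hm⟩ := by
    rw [Fin.lt_def]
    simp
  have hmk : (⟨j + 1, hm⟩ : Fin N) < (⟨j, hk⟩ : Fin N).rev := by
    rw [Fin.lt_def, hkr]
    simp
  have hj2 : 2 * j + 2 ≤ N := by omega
  rw [mem_Xp hj2, gl_xpO]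
  refine ⟨xO_isUpU φ hkm hmk a b, xO_isBlkU φ hj2 _ _ _ ?_ ?_ ?_ a b⟩
  · unfold blk
    right; left
    exact ⟨rfl, Or.inl rfl⟩
  · rw [hkr]
    unfold blk
    right; left
    exact ⟨rfl, Or.inr (by omega)⟩
  · rw [hkr]
    unfold blk
    right; right; right; left
    exact ⟨rfl, rfl, hj⟩

theorem xmO_mem_Xm (hφ : ∀ x, φ (φ x) = x) (j : ℕ) (hj : 2 * j + 3 = N) (a b : F)
    (hb : b + φ b + a * φ a = 0) : xmO hφ j hj a b hb ∈ Xm N F φ j := by
  have hk : j + 2 < N := by omega
  have hm : j + 1 < N := by omega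
  have hkr : (((⟨j + 2, hk⟩ : Fin N).rev : Fin N) : ℕ) = j := by
    rw [Fin.val_rev]
    simp only
    omega
  have hkm : (⟨j + 1, hm⟩ : Fin N) < ⟨j + 2, hk⟩ := by
    rw [Fin.lt_def]
    simp
  have hmk : (⟨j + 2, hk⟩ : Fin N).rev < (⟨j + 1, hm⟩ : Fin N) := by
    rw [Fin.lt_def, hkr]
    simp
  have hj2 : 2 * j + 2 ≤ N := by omega
  rw [mem_Xm hj2, gl_xmO]
  refine ⟨xO_isLoU φ hkm hmk a b, xO_isBlk φ hj2 _ _ _ ?_ ?_ ?_ a b⟩
  · unfold blk
    right; right; left
    exact ⟨rfl, Or.inr (by show j + 2 + j + 1 = N; omega)⟩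
  · rw [hkr]
    unfold blk
    right; right; left
    exact ⟨rfl, Or.inl rfl⟩
  · rw [hkr]
    unfold blk
    right; right; right; right
    exact ⟨rfl, rfl, hj⟩

/-- the elements of the positive root subgroup of a short node -/
theorem mem_Xp_short_iff (hφ : ∀ x, φ (φ x) = x) {j : ℕ} (hj : 2 * j + 4 ≤ N)
    {g : SUm N F φ} : g ∈ Xp N F φ j ↔ ∃ t : F, g = xpS hφ j hj t := by
  constructor
  · intro hg
    obtain ⟨hU, hB⟩ := (mem_Xp (by omega)).1 hg
    have ha : j < N := by omega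
    have hb : j + 1 < N := by omega
    have hra : (((⟨j, ha⟩ : Fin N).rev : Fin N) : ℕ) = N - (j + 1) := by rw [Fin.val_rev]
    have hrb : (((⟨j + 1, hb⟩ : Fin N).rev : Fin N) : ℕ) = N - (j + 1 + 1) := by
      rw [Fin.val_rev]
    have hab : (⟨j, ha⟩ : Fin N) ≠ ⟨j + 1, hb⟩ := fin_ne (by simp)
    have hab' : (⟨j + 1, hb⟩ : Fin N).rev ≠ (⟨j, ha⟩ : Fin N).rev :=
      fun e => hab (Fin.rev_injective e).symm
    have h1 : (⟨j, ha⟩ : Fin N) ≠ (⟨j + 1, hb⟩ : Fin N).rev := fin_ne (by rw [hrb]; simp only; omega)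
    have h2 : (⟨j, ha⟩ : Fin N) ≠ (⟨j, ha⟩ : Fin N).rev := fin_ne (by rw [hra]; simp only; omega)
    have h3 : (⟨j + 1, hb⟩ : Fin N) ≠ (⟨j + 1, hb⟩ : Fin N).rev :=
      fin_ne (by rw [hrb]; simp only; omega)
    obtain ⟨t, s, heq⟩ : ∃ t s : F, gl g = tv (⟨j, ha⟩ : Fin N) ⟨j + 1, hb⟩ hab t
        * tv (⟨j + 1, hb⟩ : Fin N).rev (⟨j, ha⟩ : Fin N).rev hab' s := by
      refine ⟨_, _, eq_tv2 (gl g) _ _ _ _ hab hab' h3 hU.2 ?_ ?_⟩
      · intro i k hik n1 n2
        rcases lt_or_gt_of_ne hik with h | h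
        · apply hB i k h
          intro hb'
          have hi := i.2
          have hk := k.2
          have h' : (i : ℕ) < k := h
          unfold blk at hb'
          by_cases hk1 : (k : ℕ) = j + 1
          · apply n1
            exact ⟨Fin.ext (by simp only; omega), Fin.ext (by simp only; omega)⟩
          · apply n2
            constructor
            · apply Fin.ext
              rw [hrb]
              omega
            · apply Fin.ext
              rw [hra]
              omega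
        · exact hU.1 i k h
      · rintro ⟨e1, -⟩
        exact h1 e1
    have hu := gl_mem_UH g
    rw [heq] at hu
    have hs := tv2_unitary hφ _ _ hab h1 h2 h3 t s hu
    refine ⟨t, gl_injective ?_⟩
    rw [heq, hs]
    rfl
  · rintro ⟨t, rfl⟩
    exact xpS_mem_Xp hφ j hj t

/-- the elements of the negative root subgroup of a short node -/
theorem mem_Xm_short_iff (hφ : ∀ x, φ (φ x) = x) {j : ℕ} (hj : 2 * j + 4 ≤ N)
    {g : SUm N F φ} : g ∈ Xm N F φ j ↔ ∃ t : F, g = xmS hφ j hj t := by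
  constructor
  · intro hg
    obtain ⟨hU, hB⟩ := (mem_Xm (by omega)).1 hg
    have ha : j < N := by omega
    have hb : j + 1 < N := by omega
    have hra : (((⟨j, ha⟩ : Fin N).rev : Fin N) : ℕ) = N - (j + 1) := by rw [Fin.val_rev]
    have hrb : (((⟨j + 1, hb⟩ : Fin N).rev : Fin N) : ℕ) = N - (j + 1 + 1) := by
      rw [Fin.val_rev]
    have hba : (⟨j + 1, hb⟩ : Fin N) ≠ ⟨j, ha⟩ := fin_ne (by simp)
    have hba' : (⟨j, ha⟩ : Fin N).rev ≠ (⟨j + 1, hb⟩ : Fin N).rev :=
      fun e => hba (Fin.rev_injective e).symm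
    have h1 : (⟨j + 1, hb⟩ : Fin N) ≠ (⟨j, ha⟩ : Fin N).rev := fin_ne (by rw [hra]; simp only; omega)
    have h2 : (⟨j + 1, hb⟩ : Fin N) ≠ (⟨j + 1, hb⟩ : Fin N).rev :=
      fin_ne (by rw [hrb]; simp only; omega)
    have h3 : (⟨j, ha⟩ : Fin N) ≠ (⟨j, ha⟩ : Fin N).rev := fin_ne (by rw [hra]; simp only; omega)
    obtain ⟨t, s, heq⟩ : ∃ t s : F, gl g = tv (⟨j + 1, hb⟩ : Fin N) ⟨j, ha⟩ hba t
        * tv (⟨j, ha⟩ : Fin N).rev (⟨j + 1, hb⟩ : Fin N).rev hba' s := by
      refine ⟨_, _, eq_tv2 (gl g) _ _ _ _ hba hba' h3 hU.2 ?_ ?_⟩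
      · intro i k hik n1 n2
        rcases lt_or_gt_of_ne hik with h | h
        · exact hU.1 i k h
        · apply hB i k h
          intro hb'
          have hi := i.2
          have hk := k.2
          have h' : (k : ℕ) < i := h
          unfold blk at hb'
          by_cases hk1 : (i : ℕ) = j + 1
          · apply n1
            exact ⟨Fin.ext (by simp only; omega), Fin.ext (by simp only; omega)⟩
          · apply n2
            constructor
            · apply Fin.ext
              rw [hra]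
              omega
            · apply Fin.ext
              rw [hrb]
              omega
      · rintro ⟨e1, -⟩
        exact h1 e1
    have hu := gl_mem_UH g
    rw [heq] at hu
    have hs := tv2_unitary hφ _ _ hba h1 h2 h3 t s hu
    refine ⟨t, gl_injective ?_⟩
    rw [heq, hs]
    rfl
  · rintro ⟨t, rfl⟩
    exact xmS_mem_Xm hφ j hj t

/-- the elements of the positive root subgroup of the last node in even dimension -/
theorem mem_Xp_even_iff {j : ℕ} (hj : 2 * j + 2 = N) {g : SUm N F φ} :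
    g ∈ Xp N F φ j ↔ ∃ (c : F) (hc : c + φ c = 0), g = xpL j (by omega) c hc := by
  constructor
  · intro hg
    obtain ⟨hU, hB⟩ := (mem_Xp (by omega)).1 hg
    have ha : j < N := by omega
    have hra : (((⟨j, ha⟩ : Fin N).rev : Fin N) : ℕ) = j + 1 := by
      rw [Fin.val_rev]
      simp only
      omega
    have hne : (⟨j, ha⟩ : Fin N) ≠ (⟨j, ha⟩ : Fin N).rev := fin_ne (by rw [hra]; simp)
    obtain ⟨c, heq⟩ : ∃ c : F, gl g = tv (⟨j, ha⟩ : Fin N) (⟨j, ha⟩ : Fin N).rev hne c := by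
      refine ⟨_, eq_tv1 (gl g) _ _ hne hU.2 ?_⟩
      intro i k hik n1
      rcases lt_or_gt_of_ne hik with h | h
      · apply hB i k h
        intro hb'
        have hi := i.2
        have hk := k.2
        have h' : (i : ℕ) < k := h
        unfold blk at hb'
        apply n1
        constructor
        · apply Fin.ext
          simp only
          omega
        · apply Fin.ext
          rw [hra]
          omega
      · exact hU.1 i k h
    have hu := gl_mem_UH g
    rw [heq] at hu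
    have hc := tv1_unitary _ hne c hu
    exact ⟨c, hc, gl_injective (heq.trans rfl)⟩
  · rintro ⟨c, hc, rfl⟩
    exact xpL_mem_Xp j (by omega) (by omega) c hc

/-- the elements of the negative root subgroup of the last node in even dimension -/
theorem mem_Xm_even_iff {j : ℕ} (hj : 2 * j + 2 = N) {g : SUm N F φ} :
    g ∈ Xm N F φ j ↔ ∃ (c : F) (hc : c + φ c = 0), g = xmL j (by omega) c hc := by
  constructor
  · intro hg
    obtain ⟨hU, hB⟩ := (mem_Xm (by omega)).1 hg
    have ha : j < N := by omega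
    have hra : (((⟨j, ha⟩ : Fin N).rev : Fin N) : ℕ) = j + 1 := by
      rw [Fin.val_rev]
      simp only
      omega
    have hne : (⟨j, ha⟩ : Fin N).rev ≠ (⟨j, ha⟩ : Fin N).rev.rev :=
      fin_ne (by rw [Fin.rev_rev, hra]; simp)
    obtain ⟨c, heq⟩ : ∃ c : F, gl g
        = tv (⟨j, ha⟩ : Fin N).rev (⟨j, ha⟩ : Fin N).rev.rev hne c := by
      refine ⟨_, eq_tv1 (gl g) _ _ hne hU.2 ?_⟩
      intro i k hik n1
      rcases lt_or_gt_of_ne hik with h | h
      · exact hU.1 i k h
      · apply hB i k h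
        intro hb'
        have hi := i.2
        have hk := k.2
        have h' : (k : ℕ) < i := h
        unfold blk at hb'
        apply n1
        constructor
        · apply Fin.ext
          rw [hra]
          omega
        · apply Fin.ext
          rw [Fin.rev_rev]
          simp only
          omega
    have hu := gl_mem_UH g
    rw [heq] at hu
    have hc := tv1_unitary _ hne c hu
    exact ⟨c, hc, gl_injective (heq.trans rfl)⟩
  · rintro ⟨c, hc, rfl⟩
    exact xmL_mem_Xm j (by omega) (by omega) c hc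

/-- the elements of the positive root subgroup of the last node in odd dimension -/
theorem mem_Xp_odd_iff (hφ : ∀ x, φ (φ x) = x) {j : ℕ} (hj : 2 * j + 3 = N) {g : SUm N F φ} :
    g ∈ Xp N F φ j ↔ ∃ (a b : F) (hb : b + φ b + a * φ a = 0), g = xpO hφ j hj a b hb := by
  constructor
  · intro hg
    obtain ⟨hU, hB⟩ := (mem_Xp (by omega)).1 hg
    have hk : j < N := by omega
    have hm : j + 1 < N := by omega
    have hkr : (((⟨j, hk⟩ : Fin N).rev : Fin N) : ℕ) = j + 2 := by
      rw [Fin.val_rev]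
      simp only
      omega
    have hkm : (⟨j, hk⟩ : Fin N) ≠ ⟨j + 1, hm⟩ := fin_ne (by simp)
    have hmk : (⟨j + 1, hm⟩ : Fin N) ≠ (⟨j, hk⟩ : Fin N).rev := fin_ne (by rw [hkr]; simp)
    have hkk : (⟨j, hk⟩ : Fin N) ≠ (⟨j, hk⟩ : Fin N).rev := fin_ne (by rw [hkr]; simp)
    have hmr : (⟨j + 1, hm⟩ : Fin N).rev = ⟨j + 1, hm⟩ := by
      apply Fin.ext
      rw [Fin.val_rev]
      simp only
      omega
    obtain ⟨c, a, b, heq⟩ : ∃ c a b : F, gl g
        = tv (⟨j + 1, hm⟩ : Fin N) (⟨j, hk⟩ : Fin N).rev hmk c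
          * tv (⟨j, hk⟩ : Fin N) ⟨j + 1, hm⟩ hkm a
          * tv (⟨j, hk⟩ : Fin N) (⟨j, hk⟩ : Fin N).rev hkk b := by
      refine ⟨_, _, _, eq_tv3 (gl g) _ _ _ hkm hmk hkk hU.2 ?_⟩
      intro i l hil n1 n2 n3
      rcases lt_or_gt_of_ne hil with h | h
      · apply hB i l h
        intro hb'
        have hi := i.2
        have hl := l.2
        have h' : (i : ℕ) < l := h
        unfold blk at hb'
        by_cases c1 : (i : ℕ) = j ∧ (l : ℕ) = j + 2
        · apply n1
          exact ⟨Fin.ext (by simp only; omega), Fin.ext (by rw [hkr]; omega)⟩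
        · by_cases c2 : (i : ℕ) = j ∧ (l : ℕ) = j + 1
          · apply n2
            exact ⟨Fin.ext (by simp only; omega), Fin.ext (by simp only; omega)⟩
          · apply n3
            exact ⟨Fin.ext (by simp only; omega), Fin.ext (by rw [hkr]; omega)⟩
      · exact hU.1 i l h
    have hu := gl_mem_UH g
    rw [heq] at hu
    obtain ⟨hc, hb⟩ := tv3_unitary hφ _ _ hkm hmk hkk hmr c a b hu
    refine ⟨a, b, hb, gl_injective ?_⟩
    rw [heq, hc]
    rfl
  · rintro ⟨a, b, hb, rfl⟩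
    exact xpO_mem_Xp hφ j hj a b hb

/-- the elements of the negative root subgroup of the last node in odd dimension -/
theorem mem_Xm_odd_iff (hφ : ∀ x, φ (φ x) = x) {j : ℕ} (hj : 2 * j + 3 = N) {g : SUm N F φ} :
    g ∈ Xm N F φ j ↔ ∃ (a b : F) (hb : b + φ b + a * φ a = 0), g = xmO hφ j hj a b hb := by
  constructor
  · intro hg
    obtain ⟨hU, hB⟩ := (mem_Xm (by omega)).1 hg
    have hk : j + 2 < N := by omega
    have hm : j + 1 < N := by omega
    have hkr : (((⟨j + 2, hk⟩ : Fin N).rev : Fin N) : ℕ) = j := by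
      rw [Fin.val_rev]
      simp only
      omega
    have hkm : (⟨j + 2, hk⟩ : Fin N) ≠ ⟨j + 1, hm⟩ := fin_ne (by simp)
    have hmk : (⟨j + 1, hm⟩ : Fin N) ≠ (⟨j + 2, hk⟩ : Fin N).rev := fin_ne (by rw [hkr]; simp)
    have hkk : (⟨j + 2, hk⟩ : Fin N) ≠ (⟨j + 2, hk⟩ : Fin N).rev := fin_ne (by rw [hkr]; simp)
    have hmr : (⟨j + 1, hm⟩ : Fin N).rev = ⟨j + 1, hm⟩ := by
      apply Fin.ext
      rw [Fin.val_rev]
      simp only
      omega
    obtain ⟨c, a, b, heq⟩ : ∃ c a b : F, gl g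
        = tv (⟨j + 1, hm⟩ : Fin N) (⟨j + 2, hk⟩ : Fin N).rev hmk c
          * tv (⟨j + 2, hk⟩ : Fin N) ⟨j + 1, hm⟩ hkm a
          * tv (⟨j + 2, hk⟩ : Fin N) (⟨j + 2, hk⟩ : Fin N).rev hkk b := by
      refine ⟨_, _, _, eq_tv3 (gl g) _ _ _ hkm hmk hkk hU.2 ?_⟩
      intro i l hil n1 n2 n3
      rcases lt_or_gt_of_ne hil with h | h
      · exact hU.1 i l h
      · apply hB i l h
        intro hb'
        have hi := i.2
        have hl := l.2
        have h' : (l : ℕ) < i := h
        unfold blk at hb'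
        by_cases c1 : (i : ℕ) = j + 2 ∧ (l : ℕ) = j
        · apply n1
          exact ⟨Fin.ext (by simp only; omega), Fin.ext (by rw [hkr]; omega)⟩
        · by_cases c2 : (i : ℕ) = j + 2 ∧ (l : ℕ) = j + 1
          · apply n2
            exact ⟨Fin.ext (by simp only; omega), Fin.ext (by simp only; omega)⟩
          · apply n3
            exact ⟨Fin.ext (by simp only; omega), Fin.ext (by rw [hkr]; omega)⟩
    have hu := gl_mem_UH g
    rw [heq] at hu
    obtain ⟨hc, hb⟩ := tv3_unitary hφ _ _ hkm hmk hkk hmr c a b hu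
    refine ⟨a, b, hb, gl_injective ?_⟩
    rw [heq, hc]
    rfl
  · rintro ⟨a, b, hb, rfl⟩
    exact xmO_mem_Xm hφ j hj a b hb

end grp

end Cfsg.Agent.Lib.Helper5.AutSU
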