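import Cfsg.Agent.Lib.Helper5.AutSU.Elems
import Cfsg.Agent.Lib.Helper7.AutPSL.BNTransfer
import Mathlib

/-!
# The `(B, N)`-pair of the special unitary group of the antidiagonal form (helper5)

From helper8's `(B, N)`-pair of the unitary group `UH N F φ`, by changing the representatives of
the reflections to elements of determinant one and pulling back (helper7's `changeS`, `comapInj`).
-/

set_option autoImplicit false

namespace Cfsg.Agent.Lib.Helper5.AutSU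

open Matrix Cfsg Cfsg.Agent.Lib.Helper5.GLBN Cfsg.Agent.Lib.Helper8.SpBN
open Cfsg.Agent.Lib.Helper8.Tw Cfsg.Agent.PSUT Cfsg.Agent.Lib.H7AutPSL
open scoped MatrixGroups

variable {N : ℕ} {F : Type*} [Field F] [Fintype F] {φ : F →+* F} {q : ℕ}

/-- the standing hypotheses -/
structure Ctx (N : ℕ) (F : Type*) [Field F] [Fintype F] (φ : F →+* F) (q : ℕ) : Prop where
  hN : 3 ≤ N
  hF : Fintype.card F = q ^ 2
  hφ : ∀ x, φ x = x ^ q

theorem Ctx.inv (C : Ctx N F φ q) (x : F) : φ (φ x) = x := by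
  rw [C.hφ, C.hφ, ← pow_mul, ← sq, ← C.hF, FiniteField.pow_card]

theorem Ctx.skew (C : Ctx N F φ q) : ∃ z : F, z ≠ 0 ∧ z + φ z = 0 := by
  obtain ⟨z, hz0, hz⟩ := exists_skew C.hF
  exact ⟨z, hz0, by rw [C.hφ]; exact hz⟩

/-- helper8's data of the unitary group -/
noncomputable def Ctx.T (C : Ctx N F φ q) : TwData N F := uData φ C.inv C.skew N

/-- helper8's `(B, N)`-pair of the unitary group -/
noncomputable def Ctx.P0 (C : Ctx N F φ q) : BNPair ↥(UH N F φ) := C.T.bn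

/-- the permutation matrix of a reflection, in the unitary group -/
noncomputable def Ctx.pU (C : Ctx N F φ q) (j : ℕ) : ↥(UH N F φ) := C.T.sF j

theorem Ctx.pU_coe (C : Ctx N F φ q) {j : ℕ} (hj : j < N / 2) :
    ((C.pU j : ↥(UH N F φ)) : GL (Fin N) F) = permGL (rho N j) :=
  C.T.sF_coe hj

/-- an element of determinant one in the coset of a diagonal matrix -/
theorem Ctx.exists_det_one (C : Ctx N F φ q) (g : ↥(UH N F φ)) :
    ∃ m : SUm N F φ, IsMono (((g⁻¹ * (m : ↥(UH N F φ)) : ↥(UH N F φ)) : GL (Fin N) F) :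
      Matrix (Fin N) (Fin N) F) 1 := by
  obtain ⟨m, hm, h⟩ := exists_mem_N1_mul_diag C.hF (by have := C.hN; omega) C.hφ C.inv g⁻¹
  exact ⟨⟨m, hm⟩, h⟩

/-- a representative of determinant one -/
noncomputable def Ctx.fix1 (C : Ctx N F φ q) (g : ↥(UH N F φ)) : SUm N F φ :=
  Classical.choose (C.exists_det_one g)

theorem Ctx.fix1_spec (C : Ctx N F φ q) (g : ↥(UH N F φ)) :
    IsMono (((g⁻¹ * (C.fix1 g : ↥(UH N F φ)) : ↥(UH N F φ)) : GL (Fin N) F) :
      Matrix (Fin N) (Fin N) F) 1 :=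
  Classical.choose_spec (C.exists_det_one g)

/-- the representatives of the reflections in the special unitary group -/
noncomputable def Ctx.sN (C : Ctx N F φ q) (j : ℕ) : SUm N F φ := C.fix1 (C.pU j)

/-- a diagonal element of the unitary group lies in `B ⊓ N` -/
theorem Ctx.diag_mem (C : Ctx N F φ q) {t : ↥(UH N F φ)}
    (ht : IsMono ((t : GL (Fin N) F) : Matrix (Fin N) (Fin N) F) 1) : t ∈ C.P0.B ⊓ C.P0.N := by
  constructor
  · exact (C.T.mem_BF (g := t)).2 (mem_upper_of_isMono_one ht)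
  · exact (C.T.mem_NF (g := t)).2 ⟨1, ht⟩

/-- the new set of representatives -/
def Ctx.S1 (C : Ctx N F φ q) : Set ↥(UH N F φ) :=
  {s | ∃ j < N / 2, s = (C.sN j : ↥(UH N F φ))}

theorem Ctx.mem_P0S (C : Ctx N F φ q) {s : ↥(UH N F φ)} :
    s ∈ C.P0.S ↔ ∃ j < N / 2, s = C.pU j := by
  constructor
  · rintro ⟨j, hj, e⟩
    refine ⟨j, hj, Subtype.ext ?_⟩
    rw [e]
    exact (C.pU_coe hj).symm
  · rintro ⟨j, hj, rfl⟩
    exact ⟨j, hj, C.pU_coe hj⟩

/-- the `(B, N)`-pair of the unitary group with representatives of determinant one -/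
noncomputable def Ctx.P1 (C : Ctx N F φ q) : BNPair ↥(UH N F φ) :=
  changeS C.P0 C.S1
    (by
      rintro s' ⟨j, hj, rfl⟩
      refine ⟨C.pU j, C.mem_P0S.2 ⟨j, hj, rfl⟩, (C.pU j)⁻¹ * (C.sN j : ↥(UH N F φ)),
        C.diag_mem (C.fix1_spec _), ?_⟩
      group)
    (by
      intro s hs
      obtain ⟨j, hj, rfl⟩ := C.mem_P0S.1 hs
      refine ⟨(C.sN j : ↥(UH N F φ)), ⟨j, hj, rfl⟩, (C.pU j)⁻¹ * (C.sN j : ↥(UH N F φ)),
        C.diag_mem (C.fix1_spec _), ?_⟩
      group)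
    (by
      rintro s₁ ⟨i, hi, rfl⟩ s₂ ⟨j, hj, rfl⟩ h
      have h1 := (C.diag_mem (C.fix1_spec (C.pU i))).1
      have h2 := (C.diag_mem (C.fix1_spec (C.pU j))).1
      have h3 : (C.pU i)⁻¹ * C.pU j ∈ C.P0.B := by
        have e : (C.pU i)⁻¹ * C.pU j
            = ((C.pU i)⁻¹ * (C.sN i : ↥(UH N F φ)))
              * ((C.sN i : ↥(UH N F φ))⁻¹ * (C.sN j : ↥(UH N F φ)))
              * ((C.pU j)⁻¹ * (C.sN j : ↥(UH N F φ)))⁻¹ := by group
        rw [e]
        exact mul_mem (mul_mem h1 h) (inv_mem h2)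
      have h4 : C.pU i = C.pU j :=
        C.P0.inj _ (C.mem_P0S.2 ⟨i, hi, rfl⟩) _ (C.mem_P0S.2 ⟨j, hj, rfl⟩) h3
      show ((C.fix1 (C.pU i) : SUm N F φ) : ↥(UH N F φ)) = (C.fix1 (C.pU j) : SUm N F φ)
      rw [h4])

/-- the `(B, N)`-pair of the special unitary group -/
noncomputable def Ctx.P (C : Ctx N F φ q) : BNPair (SUm N F φ) :=
  comapInj C.P1 (N1 N F φ).subtype Subtype.val_injective
    (by
      rintro s ⟨j, hj, rfl⟩
      exact ⟨C.sN j, rfl⟩)
    (by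
      intro g
      refine ⟨g⁻¹ * (C.fix1 g : ↥(UH N F φ)), C.diag_mem (C.fix1_spec g), C.fix1 g, ?_⟩
      rw [Subgroup.coe_subtype]
      group)

theorem Ctx.P_B (C : Ctx N F φ q) : C.P.B = BB N F φ := by
  ext g
  exact (C.T.mem_BF (g := (g : ↥(UH N F φ))))

theorem Ctx.mem_P_N (C : Ctx N F φ q) {g : SUm N F φ} : g ∈ C.P.N ↔ gl g ∈ monoN N F := by
  exact (C.T.mem_NF (g := (g : ↥(UH N F φ))))

theorem Ctx.P_S (C : Ctx N F φ q) : C.P.S = {s | ∃ j < N / 2, s = C.sN j} := by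
  ext g
  show (g : ↥(UH N F φ)) ∈ C.S1 ↔ _
  constructor
  · rintro ⟨j, hj, e⟩
    exact ⟨j, hj, Subtype.ext e⟩
  · rintro ⟨j, hj, rfl⟩
    exact ⟨j, hj, rfl⟩

/-- the matrix of a representative of a reflection -/
theorem Ctx.exists_gl_sN (C : Ctx N F φ q) {j : ℕ} (hj : j < N / 2) :
    ∃ t : GL (Fin N) F, IsMono (t : Matrix (Fin N) (Fin N) F) 1 ∧
      gl (C.sN j) = permGL (rho N j) * t := by
  refine ⟨_, C.fix1_spec (C.pU j), ?_⟩
  rw [Subgroup.coe_mul, Subgroup.coe_inv, C.pU_coe hj]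
  show gl (C.sN j) = permGL (rho N j) * ((permGL (rho N j))⁻¹ * gl (C.sN j))
  group

end Cfsg.Agent.Lib.Helper5.AutSU
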