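import Cfsg.Agent.Lib.Helper5.AutSU.Defs
import Mathlib

/-!
# The special unitary group of the antidiagonal form: the root elements of the nodes (helper5)
-/

set_option autoImplicit false

namespace Cfsg.Agent.Lib.Helper5.AutSU

open Matrix Cfsg Cfsg.Agent.Lib.Helper5.GLBN Cfsg.Agent.Lib.Helper8.SpBN
open Cfsg.Agent.Lib.Helper8.Tw Cfsg.Agent.PSUT
open scoped MatrixGroups

variable {N : ℕ} {F : Type*} [Field F] {φ : F →+* F}

/-! ### shapes of the root elements -/

theorem tv_isUpU {a b : Fin N} (hab : a < b) (c : F) :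
    IsUpU ((tv a b (ne_of_lt hab) c : GL (Fin N) F) : Matrix (Fin N) (Fin N) F) := by
  constructor
  · intro i j hji
    rw [tv_apply, if_neg (ne_of_gt hji), if_neg, add_zero]
    rintro ⟨rfl, rfl⟩
    exact absurd hab (not_lt.2 hji.le)
  · intro i
    rw [tv_apply, if_pos rfl, if_neg, add_zero]
    rintro ⟨rfl, h⟩
    exact (ne_of_lt hab) h.symm

theorem tv_isLoU {a b : Fin N} (hab : b < a) (c : F) :
    IsLoU ((tv a b (ne_of_gt hab) c : GL (Fin N) F) : Matrix (Fin N) (Fin N) F) := by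
  constructor
  · intro i j hij
    rw [tv_apply, if_neg (ne_of_lt hij), if_neg, add_zero]
    rintro ⟨rfl, rfl⟩
    exact absurd hab (not_lt.2 hij.le)
  · intro i
    rw [tv_apply, if_pos rfl, if_neg, add_zero]
    rintro ⟨rfl, h⟩
    exact (ne_of_gt hab) h.symm

theorem tv_isBlkU {j : ℕ} {a b : Fin N} (hab : a ≠ b) (h : blk N j a b) (c : F) :
    IsBlkU j ((tv a b hab c : GL (Fin N) F) : Matrix (Fin N) (Fin N) F) := by
  intro i k hik hn
  rw [tv_apply, if_neg (ne_of_lt hik), if_neg, add_zero]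
  rintro ⟨rfl, rfl⟩
  exact hn h

theorem tv_isBlk {j : ℕ} {a b : Fin N} (hab : a ≠ b) (h : blk N j a b) (c : F) :
    IsBlk j ((tv a b hab c : GL (Fin N) F) : Matrix (Fin N) (Fin N) F) := by
  intro i k hik hn
  rw [tv_apply, if_neg (ne_of_gt hik), if_neg, add_zero]
  rintro ⟨rfl, rfl⟩
  exact hn h

theorem xS_isUpU {a b : Fin N} (hab : a < b) (c : F) :
    IsUpU ((xS φ a b (ne_of_lt hab) c : GL (Fin N) F) : Matrix (Fin N) (Fin N) F) := by
  unfold xS
  rw [Units.val_mul]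
  exact (tv_isUpU hab c).mul (tv_isUpU (Fin.rev_lt_rev.2 hab) _)

theorem xS_isLoU {a b : Fin N} (hab : b < a) (c : F) :
    IsLoU ((xS φ a b (ne_of_gt hab) c : GL (Fin N) F) : Matrix (Fin N) (Fin N) F) := by
  unfold xS
  rw [Units.val_mul]
  exact (tv_isLoU hab c).mul (tv_isLoU (Fin.rev_lt_rev.2 hab) _)

theorem blk_rev_nat (N j a b a' b' : ℕ) (ha : a' + a + 1 = N) (hb : b' + b + 1 = N) :
    blk N j a' b' ↔ blk N j a b := by
  unfold blk
  constructor
  · rintro (h | h | h | h | h)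
    · left; omega
    · right; right; left; omega
    · right; left; omega
    · right; right; right; right; omega
    · right; right; right; left; omega
  · rintro (h | h | h | h | h)
    · left; omega
    · right; right; left; omega
    · right; left; omega
    · right; right; right; right; omega
    · right; right; right; left; omega

theorem blk_rev (j : ℕ) (a b : Fin N) : blk N j a.rev b.rev ↔ blk N j a b := by
  have ha := a.2
  have hb := b.2
  apply blk_rev_nat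
  · rw [Fin.val_rev]; omega
  · rw [Fin.val_rev]; omega

theorem xS_isBlkU {j : ℕ} (hj : 2 * j + 2 ≤ N) {a b : Fin N} (hab : a ≠ b) (h : blk N j a b)
    (c : F) : IsBlkU j ((xS φ a b hab c : GL (Fin N) F) : Matrix (Fin N) (Fin N) F) := by
  unfold xS
  rw [Units.val_mul]
  apply IsBlkU.mul hj (tv_isBlkU hab h c) (tv_isBlkU _ _ _)
  rw [blk_rev]
  exact (blk_comm N j a b).1 h

theorem xS_isBlk {j : ℕ} (hj : 2 * j + 2 ≤ N) {a b : Fin N} (hab : a ≠ b) (h : blk N j a b)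
    (c : F) : IsBlk j ((xS φ a b hab c : GL (Fin N) F) : Matrix (Fin N) (Fin N) F) := by
  unfold xS
  rw [Units.val_mul]
  apply IsBlk.mul hj (tv_isBlk hab h c) (tv_isBlk _ _ _)
  rw [blk_rev]
  exact (blk_comm N j a b).1 h

/-! ### positions -/

theorem fin_ne {a b : Fin N} (h : (a : ℕ) ≠ b) : a ≠ b := fun e => h (congrArg Fin.val e)

theorem val_rev_mk (k : ℕ) (h : k < N) : (((⟨k, h⟩ : Fin N).rev : Fin N) : ℕ) = N - (k + 1) :=
  Fin.val_rev _

/-! ### the root elements of a short node `j`, `2 j + 4 ≤ N` -/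

/-- the positive root elements of a short node -/
def xpS (hφ : ∀ x, φ (φ x) = x) (j : ℕ) (hj : 2 * j + 4 ≤ N) (c : F) : SUm N F φ :=
  mk1 (xS φ (⟨j, by omega⟩ : Fin N) ⟨j + 1, by omega⟩ (fin_ne (by simp)) c)
    (xS_mem_UH hφ _ _ _ (fin_ne (by rw [val_rev_mk]; simp only; omega))
      (fin_ne (by rw [val_rev_mk]; simp only; omega))
      (fin_ne (by rw [val_rev_mk]; simp only; omega)) c)
    (det_xS _ _ _ _ _)

/-- the negative root elements of a short node -/
def xmS (hφ : ∀ x, φ (φ x) = x) (j : ℕ) (hj : 2 * j + 4 ≤ N) (c : F) : SUm N F φ :=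
  mk1 (xS φ (⟨j + 1, by omega⟩ : Fin N) ⟨j, by omega⟩ (fin_ne (by simp)) c)
    (xS_mem_UH hφ _ _ _ (fin_ne (by rw [val_rev_mk]; simp only; omega))
      (fin_ne (by rw [val_rev_mk]; simp only; omega))
      (fin_ne (by rw [val_rev_mk]; simp only; omega)) c)
    (det_xS _ _ _ _ _)

theorem gl_xpS (hφ : ∀ x, φ (φ x) = x) (j : ℕ) (hj : 2 * j + 4 ≤ N) (c : F) :
    gl (xpS hφ j hj c) = xS φ (⟨j, by omega⟩ : Fin N) ⟨j + 1, by omega⟩ (fin_ne (by simp)) c := rfl

theorem gl_xmS (hφ : ∀ x, φ (φ x) = x) (j : ℕ) (hj : 2 * j + 4 ≤ N) (c : F) :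
    gl (xmS hφ j hj c) = xS φ (⟨j + 1, by omega⟩ : Fin N) ⟨j, by omega⟩ (fin_ne (by simp)) c := rfl

/-! ### the long root elements of a node `j`, `2 j + 2 ≤ N` -/

/-- the positive long root elements at the position `(j, N - 1 - j)` -/
def xpL (j : ℕ) (hj : 2 * j + 2 ≤ N) (c : F) (hc : c + φ c = 0) : SUm N F φ :=
  mk1 (xL (⟨j, by omega⟩ : Fin N) (fin_ne (by rw [val_rev_mk]; simp only; omega)) c)
    (xL_mem_UH _ _ c hc) (det_xL _ _ _)

/-- the negative long root elements at the position `(N - 1 - j, j)` -/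
def xmL (j : ℕ) (hj : 2 * j + 2 ≤ N) (c : F) (hc : c + φ c = 0) : SUm N F φ :=
  mk1 (xL ((⟨j, by omega⟩ : Fin N).rev)
      (fin_ne (by rw [Fin.rev_rev, val_rev_mk]; simp only; omega)) c)
    (xL_mem_UH _ _ c hc) (det_xL _ _ _)

theorem gl_xpL (j : ℕ) (hj : 2 * j + 2 ≤ N) (c : F) (hc : c + φ c = 0) :
    gl (xpL (φ := φ) j hj c hc)
      = xL (⟨j, by omega⟩ : Fin N) (fin_ne (by rw [val_rev_mk]; simp only; omega)) c := rfl

theorem gl_xmL (j : ℕ) (hj : 2 * j + 2 ≤ N) (c : F) (hc : c + φ c = 0) :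
    gl (xmL (φ := φ) j hj c hc)
      = xL ((⟨j, by omega⟩ : Fin N).rev)
        (fin_ne (by rw [Fin.rev_rev, val_rev_mk]; simp only; omega)) c := rfl

/-! ### membership in the root subgroups -/

theorem blk_last (N j r : ℕ) (hr : r + j + 1 = N) (hj : 2 * j + 2 ≤ N) (hl : N ≤ 2 * j + 3) :
    blk N j j r := by
  unfold blk
  omega

section fin

variable [Finite F]

theorem xpS_mem_Xp (hφ : ∀ x, φ (φ x) = x) (j : ℕ) (hj : 2 * j + 4 ≤ N) (c : F) :
    xpS hφ j hj c ∈ Xp N F φ j := by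
  rw [mem_Xp (by omega), gl_xpS]
  constructor
  · exact xS_isUpU (a := (⟨j, by omega⟩ : Fin N)) (b := ⟨j + 1, by omega⟩)
      (by rw [Fin.lt_def]; simp) c
  · apply xS_isBlkU (by omega)
    unfold blk
    right; left
    exact ⟨rfl, Or.inl rfl⟩

theorem xmS_mem_Xm (hφ : ∀ x, φ (φ x) = x) (j : ℕ) (hj : 2 * j + 4 ≤ N) (c : F) :
    xmS hφ j hj c ∈ Xm N F φ j := by
  rw [mem_Xm (by omega), gl_xmS]
  constructor
  · exact xS_isLoU (a := (⟨j + 1, by omega⟩ : Fin N)) (b := ⟨j, by omega⟩)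
      (by rw [Fin.lt_def]; simp) c
  · apply xS_isBlk (by omega)
    unfold blk
    right; right; left
    exact ⟨rfl, Or.inl rfl⟩

theorem xpL_mem_Xp (j : ℕ) (hj : 2 * j + 2 ≤ N) (hl : N ≤ 2 * j + 3) (c : F) (hc : c + φ c = 0) :
    xpL (φ := φ) j hj c hc ∈ Xp N F φ j := by
  rw [mem_Xp hj, gl_xpL]
  have hlt : (⟨j, by omega⟩ : Fin N) < (⟨j, by omega⟩ : Fin N).rev := by
    rw [Fin.lt_def, val_rev_mk]
    simp only
    omega
  constructor
  · exact tv_isUpU hlt c
  · apply tv_isBlkU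
    rw [Fin.val_rev]
    exact blk_last N j _ (by simp only; omega) hj hl

theorem xmL_mem_Xm (j : ℕ) (hj : 2 * j + 2 ≤ N) (hl : N ≤ 2 * j + 3) (c : F) (hc : c + φ c = 0) :
    xmL (φ := φ) j hj c hc ∈ Xm N F φ j := by
  rw [mem_Xm hj, gl_xmL]
  have hlt : (⟨j, by omega⟩ : Fin N).rev.rev < (⟨j, by omega⟩ : Fin N).rev := by
    rw [Fin.rev_rev, Fin.lt_def, val_rev_mk]
    simp only
    omega
  constructor
  · exact tv_isLoU hlt c
  · apply tv_isBlk
    rw [Fin.rev_rev, Fin.val_rev, blk_comm]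
    exact blk_last N j _ (by simp only; omega) hj hl

end fin

end Cfsg.Agent.Lib.Helper5.AutSU
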