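import Cfsg.Agent.Lib.Helper5.AutSU.BNSU
import Cfsg.Agent.H9.SpB
import Mathlib

/-!
# The special unitary group: the split `(B, N)`-pair facts (helper5)
-/

set_option autoImplicit false

namespace Cfsg.Agent.Lib.Helper5.AutSU

open Matrix Cfsg Cfsg.Agent.Lib.Helper5.GLBN Cfsg.Agent.Lib.Helper8.SpBN
open Cfsg.Agent.Lib.Helper8.Tw Cfsg.Agent.PSUT Cfsg.Agent.Lib.H7AutPSL
open Cfsg.Agent.Lib.Helper5.AutBN Cfsg.Agent.Lib.Helper8.AutSp
open scoped MatrixGroups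

variable {N : ℕ} {F : Type*} [Field F] [Fintype F] {φ : F →+* F} {q : ℕ}

theorem mem_UU_iff_UT {g : SUm N F φ} : g ∈ UU N F φ ↔ gl g ∈ UT N F := by
  rw [mem_UU, mem_UT, mem_upper]
  exact ⟨fun h => ⟨h.1, h.2⟩, fun h => ⟨h.1, h.2⟩⟩

theorem det_of_isUpU {M : Matrix (Fin N) (Fin N) F} (h : IsUpU M) : M.det = 1 := by
  have htri : M.BlockTriangular id := fun i j hij => h.1 i j hij
  rw [Matrix.det_of_isUpperTriangular htri]
  apply Finset.prod_eq_one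
  intro i _
  exact h.2 i

/-- `B` normalizes `U` -/
theorem UU_normal : ∀ b ∈ BB N F φ, ∀ u ∈ UU N F φ, b * u * b⁻¹ ∈ UU N F φ := by
  intro b hb u hu
  rw [mem_UU_iff_UT, gl_mul, gl_mul, gl_inv]
  exact UT_normal _ hb _ (mem_UU_iff_UT.1 hu)

theorem isPGroup_UU (p : ℕ) [Fact p.Prime] [CharP F p] : IsPGroup p ↥(UU N F φ) := by
  have h := isPGroup_UT (N := N) (F := F) p
  let f : ↥(UU N F φ) →* ↥(UT N F) :=
    ((glHom N F φ).comp (UU N F φ).subtype).codRestrict (UT N F) (fun g => mem_UU_iff_UT.1 g.2)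
  have hf : Function.Injective f := by
    intro a b hab
    have h1 : gl (a : SUm N F φ) = gl (b : SUm N F φ) :=
      congrArg (fun x : ↥(UT N F) => (x : GL (Fin N) F)) hab
    exact Subtype.ext (gl_injective h1)
  exact h.of_injective f hf

/-- an element of `B` of `p`-power order is unitriangular -/
theorem mem_UU_of_pow (p : ℕ) [Fact p.Prime] [CharP F p] {b : SUm N F φ} (hb : b ∈ BB N F φ)
    (k : ℕ) (h : b ^ p ^ k = 1) : b ∈ UU N F φ := by
  rw [mem_UU_iff_UT]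
  apply mem_UT_of_pow p hb k
  have := congrArg gl h
  rw [gl_one] at this
  rw [← this]
  exact (map_pow (glHom N F φ) b (p ^ k)).symm

section ctx

/-- `B = T U` -/
theorem Ctx.exists_TU (C : Ctx N F φ q) (b : SUm N F φ) (hb : b ∈ C.P.B) :
    ∃ t ∈ C.P.B ⊓ C.P.N, ∃ u ∈ UU N F φ, b = t * u := by
  rw [C.P_B] at hb
  have hb' : (b : ↥(UH N F φ)) ∈ C.T.BF := (C.T.mem_BF (g := (b : ↥(UH N F φ)))).2 hb
  obtain ⟨t, ht, hu⟩ := C.T.exists_torus_decomp hb'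
  have htm : IsMono ((t : GL (Fin N) F) : Matrix (Fin N) (Fin N) F) 1 := C.T.mem_diagK_iff.1 ht
  have hu' : ((b : ↥(UH N F φ)) : GL (Fin N) F) * ((t : ↥(UH N F φ)) : GL (Fin N) F)⁻¹ ∈ UT N F := by
    exact (C.T.mem_UF).1 hu
  have hdu : (((b : ↥(UH N F φ)) : GL (Fin N) F) * ((t : ↥(UH N F φ)) : GL (Fin N) F)⁻¹
      : GL (Fin N) F).val.det = 1 :=
    det_of_isUpU ⟨(mem_upper.1 hu'.1), hu'.2⟩
  have hdt : ((t : GL (Fin N) F) : Matrix (Fin N) (Fin N) F).det = 1 := by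
    have h1 : ((b : ↥(UH N F φ)) : GL (Fin N) F)
        = (((b : ↥(UH N F φ)) : GL (Fin N) F) * ((t : ↥(UH N F φ)) : GL (Fin N) F)⁻¹)
          * ((t : ↥(UH N F φ)) : GL (Fin N) F) := by group
    have h2 : (((b : ↥(UH N F φ)) : GL (Fin N) F) : Matrix (Fin N) (Fin N) F).det
        = ((((b : ↥(UH N F φ)) : GL (Fin N) F) * ((t : ↥(UH N F φ)) : GL (Fin N) F)⁻¹)
          * ((t : ↥(UH N F φ)) : GL (Fin N) F) : GL (Fin N) F).val.det :=
      congrArg (fun g : GL (Fin N) F => (g : Matrix (Fin N) (Fin N) F).det) h1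
    rw [Units.val_mul, Matrix.det_mul, hdu, one_mul] at h2
    rw [← h2]
    exact gl_det b
  set tS : SUm N F φ := ⟨t, mem_N1.2 hdt⟩ with htS
  have htB1 : tS ∈ C.P.B := by
    rw [C.P_B, mem_BB]
    exact mem_upper.1 (mem_upper_of_isMono_one htm)
  have htB2 : tS ∈ C.P.N := by
    rw [C.mem_P_N]
    exact ⟨1, htm⟩
  have htB : tS ∈ C.P.B ⊓ C.P.N := ⟨htB1, htB2⟩
  have htB' : tS ∈ BB N F φ := by
    rw [← C.P_B]
    exact htB.1
  have hu2 : b * tS⁻¹ ∈ UU N F φ := by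
    rw [mem_UU_iff_UT, gl_mul, gl_inv]
    exact hu'
  refine ⟨tS, htB, tS⁻¹ * (b * tS⁻¹) * tS⁻¹⁻¹, UU_normal _ (inv_mem htB') _ hu2, ?_⟩
  group

/-- the normalizer of `U` is `B` -/
theorem Ctx.normalizer_UU (C : Ctx N F φ q) : Subgroup.normalizer (UU N F φ : Set (SUm N F φ)) = C.P.B := by
  apply normalizer_eq_B C.P (UU N F φ)
  · intro b hb
    rw [C.P_B] at hb
    exact UU_normal b hb
  · rw [C.P_B]
    exact UU_le_BB
  · exact C.exists_TU

/-- `U` is a Sylow subgroup -/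
theorem Ctx.card_UU (C : Ctx N F φ q) (p : ℕ) [Fact p.Prime] [CharP F p] :
    Nat.card ↥(UU N F φ) = p ^ (Nat.card (SUm N F φ)).factorization p := by
  apply Cfsg.Agent.H9.SpB.card_eq_of_normalizer p (UU N F φ) (isPGroup_UU p)
  intro x hx k hk
  rw [C.normalizer_UU, C.P_B] at hx
  exact mem_UU_of_pow p hx k hk

theorem Ctx.index_UU (C : Ctx N F φ q) (p : ℕ) [hp : Fact p.Prime] [CharP F p] : ¬ p ∣ (UU N F φ).index := by
  have h1 := Subgroup.card_mul_index (UU N F φ)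
  rw [C.card_UU p] at h1
  have hpos : Nat.card (SUm N F φ) ≠ 0 := Nat.card_pos.ne'
  intro hdvd
  have h2 : p ^ ((Nat.card (SUm N F φ)).factorization p + 1) ∣ Nat.card (SUm N F φ) := by
    obtain ⟨d, hd⟩ := hdvd
    refine ⟨d, ?_⟩
    rw [pow_succ, mul_assoc, ← hd]
    exact h1.symm
  exact Nat.pow_succ_factorization_not_dvd hpos hp.out h2

end ctx

end Cfsg.Agent.Lib.Helper5.AutSU
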