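import Cfsg.Agent.Lib.Helper5.AutSU.Facts1
import Mathlib

/-!
# The special unitary group: the longest element and the opposite subgroups (helper5)
-/

set_option autoImplicit false

namespace Cfsg.Agent.Lib.Helper5.AutSU

open Matrix Cfsg Cfsg.Agent.Lib.Helper5.GLBN Cfsg.Agent.Lib.Helper8.SpBN
open Cfsg.Agent.Lib.Helper8.Tw Cfsg.Agent.PSUT Cfsg.Agent.Lib.H7AutPSL
open Cfsg.Agent.Lib.Helper5.AutBN Cfsg.Agent.Lib.Helper8.AutSp
open scoped MatrixGroups

variable {N : ℕ} {F : Type*} [Field F] [Fintype F] {φ : F →+* F} {q : ℕ}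

/-- the longest element, in the special unitary group -/
noncomputable def Ctx.n0 (C : Ctx N F φ q) : SUm N F φ := C.fix1 C.T.n0F

theorem Ctx.isMono_n0 (C : Ctx N F φ q) :
    IsMono ((gl C.n0 : GL (Fin N) F) : Matrix (Fin N) (Fin N) F) Fin.revPerm := by
  have h1 := C.fix1_spec C.T.n0F
  have e : gl C.n0 = RG N F * ((RG N F)⁻¹ * gl C.n0) := by group
  rw [e, Units.val_mul]
  have h2 := (isMono_RG (N := N) (F := F)).mul h1
  rw [mul_one] at h2
  exact h2

/-- the entries of a conjugate under the longest element -/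
theorem Ctx.n0_conj_apply (C : Ctx N F φ q) (x : SUm N F φ) (i j : Fin N) :
    ((gl (C.n0⁻¹ * x * C.n0) : GL (Fin N) F) : Matrix (Fin N) (Fin N) F) i j
      = (((gl C.n0)⁻¹ : GL (Fin N) F) : Matrix (Fin N) (Fin N) F) i i.rev
        * ((gl x : GL (Fin N) F) : Matrix (Fin N) (Fin N) F) i.rev j.rev
        * ((gl C.n0 : GL (Fin N) F) : Matrix (Fin N) (Fin N) F) j.rev j := by
  rw [gl_mul, gl_mul, gl_inv, mono_conj_apply C.isMono_n0]
  rfl

theorem Ctx.n0_left_ne (C : Ctx N F φ q) (i : Fin N) :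
    (((gl C.n0)⁻¹ : GL (Fin N) F) : Matrix (Fin N) (Fin N) F) i i.rev ≠ 0 :=
  mono_inv_apply_ne_zero C.isMono_n0 i

theorem Ctx.n0_right_ne (C : Ctx N F φ q) (j : Fin N) :
    ((gl C.n0 : GL (Fin N) F) : Matrix (Fin N) (Fin N) F) j.rev j ≠ 0 :=
  C.isMono_n0.apply_ne_zero j

theorem Ctx.n0_left_right (C : Ctx N F φ q) (i : Fin N) :
    (((gl C.n0)⁻¹ : GL (Fin N) F) : Matrix (Fin N) (Fin N) F) i i.rev
      * ((gl C.n0 : GL (Fin N) F) : Matrix (Fin N) (Fin N) F) i.rev i = 1 := by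
  have h1 : (((gl C.n0)⁻¹ * gl C.n0 : GL (Fin N) F) : Matrix (Fin N) (Fin N) F) i i = 1 := by
    rw [inv_mul_cancel]
    simp
  rw [Units.val_mul, C.isMono_n0.mul_apply] at h1
  exact h1

theorem Ctx.n0_conj_eq_zero_iff (C : Ctx N F φ q) (x : SUm N F φ) (i j : Fin N) :
    ((gl (C.n0⁻¹ * x * C.n0) : GL (Fin N) F) : Matrix (Fin N) (Fin N) F) i j = 0
      ↔ ((gl x : GL (Fin N) F) : Matrix (Fin N) (Fin N) F) i.rev j.rev = 0 := by
  rw [C.n0_conj_apply]
  constructor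
  · intro h
    rcases mul_eq_zero.1 h with h | h
    · rcases mul_eq_zero.1 h with h | h
      · exact absurd h (C.n0_left_ne i)
      · exact h
    · exact absurd h (C.n0_right_ne j)
  · intro h
    rw [h, mul_zero, zero_mul]

theorem Ctx.n0_conj_diag (C : Ctx N F φ q) (x : SUm N F φ) (i : Fin N) :
    ((gl (C.n0⁻¹ * x * C.n0) : GL (Fin N) F) : Matrix (Fin N) (Fin N) F) i i
      = ((gl x : GL (Fin N) F) : Matrix (Fin N) (Fin N) F) i.rev i.rev := by
  rw [C.n0_conj_apply, mul_comm, ← mul_assoc, mul_comm _ ((((gl C.n0)⁻¹ : GL (Fin N) F) :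
    Matrix (Fin N) (Fin N) F) i i.rev), C.n0_left_right, one_mul]

theorem Ctx.isUpU_conj_iff (C : Ctx N F φ q) (x : SUm N F φ) :
    IsUpU ((gl (C.n0⁻¹ * x * C.n0) : GL (Fin N) F) : Matrix (Fin N) (Fin N) F)
      ↔ IsLoU ((gl x : GL (Fin N) F) : Matrix (Fin N) (Fin N) F) := by
  constructor
  · rintro ⟨h1, h2⟩
    constructor
    · intro a b hab
      have := (C.n0_conj_eq_zero_iff x a.rev b.rev).1 (h1 a.rev b.rev (Fin.rev_lt_rev.2 hab))
      rwa [Fin.rev_rev, Fin.rev_rev] at this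
    · intro a
      have := h2 a.rev
      rwa [C.n0_conj_diag, Fin.rev_rev] at this
  · rintro ⟨h1, h2⟩
    constructor
    · intro a b hba
      exact (C.n0_conj_eq_zero_iff x a b).2 (h1 a.rev b.rev (Fin.rev_lt_rev.2 hba))
    · intro a
      rw [C.n0_conj_diag]
      exact h2 a.rev

theorem Ctx.isLoU_conj_iff (C : Ctx N F φ q) (x : SUm N F φ) :
    IsLoU ((gl (C.n0⁻¹ * x * C.n0) : GL (Fin N) F) : Matrix (Fin N) (Fin N) F)
      ↔ IsUpU ((gl x : GL (Fin N) F) : Matrix (Fin N) (Fin N) F) := by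
  constructor
  · rintro ⟨h1, h2⟩
    constructor
    · intro a b hba
      have := (C.n0_conj_eq_zero_iff x a.rev b.rev).1 (h1 a.rev b.rev (Fin.rev_lt_rev.2 hba))
      rwa [Fin.rev_rev, Fin.rev_rev] at this
    · intro a
      have := h2 a.rev
      rwa [C.n0_conj_diag, Fin.rev_rev] at this
  · rintro ⟨h1, h2⟩
    constructor
    · intro a b hab
      exact (C.n0_conj_eq_zero_iff x a b).2 (h1 a.rev b.rev (Fin.rev_lt_rev.2 hab))
    · intro a
      rw [C.n0_conj_diag]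
      exact h2 a.rev

theorem Ctx.isBlk_conj_iff (C : Ctx N F φ q) (j : ℕ) (x : SUm N F φ) :
    IsBlk j ((gl (C.n0⁻¹ * x * C.n0) : GL (Fin N) F) : Matrix (Fin N) (Fin N) F)
      ↔ IsBlkU j ((gl x : GL (Fin N) F) : Matrix (Fin N) (Fin N) F) := by
  constructor
  · intro h a b hab hn
    have := (C.n0_conj_eq_zero_iff x a.rev b.rev).1
      (h a.rev b.rev (Fin.rev_lt_rev.2 hab) (fun hb => hn ((blk_rev j a b).1 hb)))
    rwa [Fin.rev_rev, Fin.rev_rev] at this
  · intro h a b hba hn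
    exact (C.n0_conj_eq_zero_iff x a b).2
      (h a.rev b.rev (Fin.rev_lt_rev.2 hba) (fun hb => hn ((blk_rev j a b).1 hb)))

/-- the longest element exchanges `U` and `V` -/
theorem Ctx.cj_n0_UU (C : Ctx N F φ q) : cj C.n0 (UU N F φ) = VV N F φ := by
  ext x
  rw [mem_cj, mem_UU, mem_VV, C.isUpU_conj_iff]

theorem Ctx.cj_n0_VV (C : Ctx N F φ q) : cj C.n0 (VV N F φ) = UU N F φ := by
  ext x
  rw [mem_cj, mem_UU, mem_VV, C.isLoU_conj_iff]

/-- the longest element exchanges the root subgroups of a node -/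
theorem Ctx.cj_n0_Xm (C : Ctx N F φ q) {j : ℕ} (hj : 2 * j + 2 ≤ N) :
    Xp N F φ j = cj C.n0 (Xm N F φ j) := by
  ext x
  rw [mem_cj, mem_Xp hj, mem_Xm hj, C.isLoU_conj_iff, C.isBlk_conj_iff]

/-- the centre lies in `B` -/
theorem Ctx.center_le_B (C : Ctx N F φ q) : Subgroup.center (SUm N F φ) ≤ C.P.B := by
  rw [← C.normalizer_UU]
  intro z hz
  rw [Subgroup.mem_normalizer_iff]
  intro u
  have e : z * u * z⁻¹ = u := by
    rw [← Subgroup.mem_center_iff.1 hz u, mul_inv_cancel_right]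
  rw [e]

/-- `U` meets the centre trivially -/
theorem Ctx.UU_inf_center (C : Ctx N F φ q) : UU N F φ ⊓ Subgroup.center (SUm N F φ) = ⊥ := by
  rw [eq_bot_iff]
  rintro z ⟨hzU, hzZ⟩
  have hzV : z ∈ VV N F φ := by
    rw [← C.cj_n0_UU, mem_cj]
    have : C.n0⁻¹ * z * C.n0 = z := by
      rw [mul_assoc, ← Subgroup.mem_center_iff.1 hzZ C.n0, ← mul_assoc, inv_mul_cancel, one_mul]
    rw [this]
    exact hzU
  have : z ∈ BB N F φ ⊓ VV N F φ := ⟨UU_le_BB hzU, hzV⟩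
  rw [BB_inf_VV] at this
  exact this

end Cfsg.Agent.Lib.Helper5.AutSU
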