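import Cfsg.Agent.Lib.Helper5.AutSU.Facts2
import Mathlib

/-!
# The special unitary group: the minimal parabolic subgroups (helper5)

The block upper triangular subgroup `QQ j` is the minimal parabolic subgroup of the node `j`;
hence `Xm j` is its intersection with the lower unitriangular group.
-/

set_option autoImplicit false

namespace Cfsg.Agent.Lib.Helper5.AutSU

open Matrix Cfsg Cfsg.Agent.Lib.Helper5.GLBN Cfsg.Agent.Lib.Helper8.SpBN
open Cfsg.Agent.Lib.Helper8.Tw Cfsg.Agent.PSUT Cfsg.Agent.Lib.H7AutPSL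
open Cfsg.Agent.Lib.Helper5.AutBN Cfsg.Agent.Lib.Helper8.AutSp
open scoped MatrixGroups

theorem rho_val_short {N i : ℕ} (hi : i + 1 < N / 2) (b : Fin N) :
    ((rho N i b : Fin N) : ℕ) =
      if (b : ℕ) = i then i + 1 else if (b : ℕ) = i + 1 then i
      else if (b : ℕ) + i + 1 = N then (b : ℕ) - 1 else if (b : ℕ) + i + 2 = N then (b : ℕ) + 1
      else b := by
  have hb := b.2
  unfold rho
  rw [dif_pos hi]
  unfold rhoS
  rw [Equiv.Perm.mul_apply, Equiv.swap_apply_def, Equiv.swap_apply_def]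
  split_ifs <;> simp only [Fin.ext_iff, Fin.val_rev] at * <;> omega

theorem rho_val_mid {N i : ℕ} (hi : i + 1 = N / 2) (b : Fin N) :
    ((rho N i b : Fin N) : ℕ) =
      if (b : ℕ) = i then N - 1 - i else if (b : ℕ) + i + 1 = N then i else b := by
  have hb := b.2
  unfold rho
  rw [dif_neg (by omega), dif_pos hi]
  unfold rhoM
  rw [Equiv.swap_apply_def]
  split_ifs <;> simp only [Fin.ext_iff, Fin.val_rev] at * <;> omega

/-- a reflection preserves the blocks of its node -/
theorem blk_rho_self {N i : ℕ} (hi : i < N / 2) (b : Fin N) : blk N i (rho N i b) b := by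
  have hb := b.2
  by_cases h : i + 1 < N / 2
  · rw [rho_val_short h]
    unfold blk
    split_ifs <;> omega
  · have h' : i + 1 = N / 2 := by omega
    rw [rho_val_mid h']
    obtain ⟨r, hr⟩ : ∃ r, N - 1 - i = r := ⟨_, rfl⟩
    rw [hr]
    unfold blk
    split_ifs <;> omega

/-- a reflection does not preserve the blocks of another node -/
theorem not_blk_rho {N i j : ℕ} (hi : i < N / 2) (hj : j < N / 2) (hij : i ≠ j) :
    ∃ b : Fin N, b < rho N i b ∧ ¬ blk N j (rho N i b) b := by
  refine ⟨⟨i, by omega⟩, ?_, ?_⟩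
  · rw [Fin.lt_def]
    by_cases h : i + 1 < N / 2
    · rw [rho_val_short h, if_pos rfl]
      simp
    · have h' : i + 1 = N / 2 := by omega
      rw [rho_val_mid h', if_pos rfl]
      simp only
      omega
  · by_cases h : i + 1 < N / 2
    · rw [rho_val_short h, if_pos rfl]
      unfold blk
      simp only
      omega
    · have h' : i + 1 = N / 2 := by omega
      rw [rho_val_mid h', if_pos rfl]
      obtain ⟨r, hr⟩ : ∃ r, N - 1 - i = r := ⟨_, rfl⟩
      rw [hr]
      unfold blk
      simp only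
      omega

variable {N : ℕ} {F : Type*} [Field F] [Fintype F] {φ : F →+* F} {q : ℕ}

/-- the entries of a representative of a reflection -/
theorem Ctx.sN_apply_eq_zero_iff (C : Ctx N F φ q) {i : ℕ} (hi : i < N / 2) (a b : Fin N) :
    ((gl (C.sN i) : GL (Fin N) F) : Matrix (Fin N) (Fin N) F) a b = 0 ↔ a ≠ rho N i b := by
  obtain ⟨t, ht, e⟩ := C.exists_gl_sN hi
  rw [e, Units.val_mul, ht.mul_apply, Equiv.Perm.one_apply, permGL_coe, pm_apply]
  have h1 : (t : Matrix (Fin N) (Fin N) F) b b ≠ 0 := by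
    have := ht.apply_ne_zero b
    rwa [Equiv.Perm.one_apply] at this
  constructor
  · intro h hab
    rw [if_pos hab, one_mul] at h
    exact h1 h
  · intro h
    rw [if_neg h, zero_mul]

/-- a representative of a reflection lies in the block upper triangular subgroup of another
node only if the nodes coincide -/
theorem Ctx.sN_mem_QQ_iff (C : Ctx N F φ q) {i j : ℕ} (hi : i < N / 2) (hj : j < N / 2) :
    C.sN i ∈ QQ N F φ j ↔ i = j := by
  rw [mem_QQ (by omega)]
  constructor
  · intro h
    by_contra hij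
    obtain ⟨b, hb1, hb2⟩ := not_blk_rho hi hj hij
    have := h (rho N i b) b hb1 hb2
    rw [C.sN_apply_eq_zero_iff hi] at this
    exact this rfl
  · rintro rfl a b _ hn
    rw [C.sN_apply_eq_zero_iff hi]
    rintro rfl
    exact hn (blk_rho_self hi b)

/-- the block upper triangular subgroups are the minimal parabolic subgroups -/
theorem Ctx.QQ_eq_parabolic (C : Ctx N F φ q) {j : ℕ} (hj : j < N / 2) :
    QQ N F φ j = C.P.parabolic {C.sN j} := by
  have h := Cfsg.Agent.Lib.Helper5.BN.eq_parabolic_of_le C.P (QQ N F φ j)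
    (by rw [C.P_B]; exact BB_le_QQ j)
  have e : {s | s ∈ C.P.S ∧ s ∈ QQ N F φ j} = ({C.sN j} : Set (SUm N F φ)) := by
    ext s
    rw [C.P_S]
    constructor
    · rintro ⟨⟨i, hi, rfl⟩, hs⟩
      rw [(C.sN_mem_QQ_iff hi hj).1 hs]
      rfl
    · intro hs
      rw [Set.mem_singleton_iff] at hs
      rw [hs]
      exact ⟨⟨j, hj, rfl⟩, (C.sN_mem_QQ_iff hj hj).2 rfl⟩
  rw [e] at h
  exact h

/-- the negative root subgroups are the intersections of the minimal parabolic subgroups with
the lower unitriangular group -/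
theorem Ctx.Xm_eq (C : Ctx N F φ q) {j : ℕ} (hj : j < N / 2) :
    Xm N F φ j = C.P.parabolic {C.sN j} ⊓ VV N F φ := by
  rw [← C.QQ_eq_parabolic hj]
  rfl

/-- the representatives of the reflections are distinct -/
theorem Ctx.sN_injective (C : Ctx N F φ q) :
    Function.Injective (fun i : Fin (N / 2) => C.sN (i : ℕ)) := by
  intro i j hij
  have hij' : C.sN (i : ℕ) = C.sN (j : ℕ) := hij
  apply Fin.ext
  apply (C.sN_mem_QQ_iff i.2 j.2).1
  rw [hij']
  exact (C.sN_mem_QQ_iff j.2 j.2).2 rfl

theorem Ctx.range_sN (C : Ctx N F φ q) :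
    Set.range (fun i : Fin (N / 2) => C.sN (i : ℕ)) = C.P.S := by
  rw [C.P_S]
  ext s
  constructor
  · rintro ⟨i, rfl⟩
    exact ⟨i, i.2, rfl⟩
  · rintro ⟨j, hj, rfl⟩
    exact ⟨⟨j, hj⟩, rfl⟩

end Cfsg.Agent.Lib.Helper5.AutSU
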