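import Cfsg.Agent.Lib.Helper5.AutSU.Facts3
import Mathlib

/-!
# The special unitary group: the opposite Sylow subgroups (helper5)

A conjugate of `U` meeting `B` trivially is a conjugate of `V` under `B`.
-/

set_option autoImplicit false

namespace Cfsg.Agent.Lib.Helper5.AutSU

open Matrix Cfsg Cfsg.Agent.Lib.Helper5.GLBN Cfsg.Agent.Lib.Helper8.SpBN
open Cfsg.Agent.Lib.Helper8.Tw Cfsg.Agent.PSUT Cfsg.Agent.Lib.H7AutPSL
open Cfsg.Agent.Lib.Helper5.AutBN Cfsg.Agent.Lib.Helper8.AutSp Cfsg.Agent.Lib.Helper5.BN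
open scoped MatrixGroups

variable {N : ℕ} {F : Type*} [Field F] [Fintype F] {φ : F →+* F} {q : ℕ}

/-- the permutation of a monomial unitary matrix commutes with the reversal -/
theorem Ctx.perm_rev (C : Ctx N F φ q) {n : SUm N F φ} {π : Equiv.Perm (Fin N)}
    (hπ : IsMono ((gl n : GL (Fin N) F) : Matrix (Fin N) (Fin N) F) π) (b : Fin N) :
    π b.rev = (π b).rev := by
  have h := C.T.revC_of_fixed (ν := gl n) (gl_mem_UH n) hπ
  exact (revC_eq_self_iff π).1 h b

/-- an element of `U` conjugated into `B` by a monomial matrix `n` with `n U n⁻¹ ∩ B = 1` is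
trivial -/
theorem Ctx.eq_one_of_conj (C : Ctx N F φ q) {n : SUm N F φ} {π : Equiv.Perm (Fin N)}
    (hπ : IsMono ((gl n : GL (Fin N) F) : Matrix (Fin N) (Fin N) F) π)
    (h : cj n (UU N F φ) ⊓ C.P.B = ⊥) (r : SUm N F φ) (hrU : r ∈ UU N F φ)
    (hr : ∀ i j, j < i →
      ((gl r : GL (Fin N) F) : Matrix (Fin N) (Fin N) F) (π⁻¹ i) (π⁻¹ j) = 0) : r = 1 := by
  have hy1 : n * r * n⁻¹ ∈ cj n (UU N F φ) := by
    rw [mem_cj]
    have e : n⁻¹ * (n * r * n⁻¹) * n = r := by group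
    rw [e]
    exact hrU
  have hy2 : n * r * n⁻¹ ∈ C.P.B := by
    rw [C.P_B]
    show gl (n * r * n⁻¹) ∈ upperTriangularGL N F
    have e : gl (n * r * n⁻¹) = ((gl n)⁻¹)⁻¹ * gl r * (gl n)⁻¹ := by
      rw [gl_mul, gl_mul, gl_inv, inv_inv]
    rw [e, mono_conj_mem_upper_iff hπ.inv]
    exact hr
  have hy : n * r * n⁻¹ ∈ cj n (UU N F φ) ⊓ C.P.B := ⟨hy1, hy2⟩
  rw [h, Subgroup.mem_bot] at hy
  have e : r = n⁻¹ * (n * r * n⁻¹) * n := by group
  rw [e, hy]
  group

theorem tv_ne_one {a b : Fin N} (hab : a ≠ b) {c : F} (hc : c ≠ 0) : tv a b hab c ≠ 1 := by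
  intro e
  have h := congrArg (fun g : GL (Fin N) F => (g : Matrix (Fin N) (Fin N) F) a b) e
  simp only [Units.val_one] at h
  rw [tv_apply, if_neg hab, if_pos ⟨rfl, rfl⟩, zero_add, Matrix.one_apply_ne hab] at h
  exact hc h

/-- a long root position which is not inverted -/
theorem Ctx.not_lt_long (C : Ctx N F φ q) {n : SUm N F φ} {π : Equiv.Perm (Fin N)}
    (hπ : IsMono ((gl n : GL (Fin N) F) : Matrix (Fin N) (Fin N) F) π)
    (h : cj n (UU N F φ) ⊓ C.P.B = ⊥) (a : Fin N) (ha : a < a.rev) : ¬ π a < π a.rev := by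
  intro hlt
  obtain ⟨z, hz0, hz⟩ := C.skew
  have hU : xL a (ne_of_lt ha) z ∈ UH N F φ := xL_mem_UH a _ z hz
  set r : SUm N F φ := mk1 (xL a (ne_of_lt ha) z) hU (det_xL _ _ _) with hr
  have hrU : r ∈ UU N F φ := by
    rw [mem_UU]
    exact tv_isUpU ha z
  have h1 : r = 1 := by
    apply C.eq_one_of_conj hπ h r hrU
    intro i j hji
    show ((xL a (ne_of_lt ha) z : GL (Fin N) F) : Matrix (Fin N) (Fin N) F) (π⁻¹ i) (π⁻¹ j) = 0
    unfold xL
    rw [tv_apply, if_neg, if_neg, add_zero]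
    · rintro ⟨e1, e2⟩
      have hi : i = π a := by rw [e1]; simp
      have hj : j = π a.rev := by rw [e2]; simp
      rw [hi, hj] at hji
      exact absurd hlt (not_lt.2 hji.le)
    · intro e
      exact (ne_of_gt hji) (π⁻¹.injective e)
  have h2 := congrArg gl h1
  rw [gl_one] at h2
  exact tv_ne_one (ne_of_lt ha) hz0 h2

/-- a short root position which is not inverted -/
theorem Ctx.not_lt_short (C : Ctx N F φ q) {n : SUm N F φ} {π : Equiv.Perm (Fin N)}
    (hπ : IsMono ((gl n : GL (Fin N) F) : Matrix (Fin N) (Fin N) F) π)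
    (h : cj n (UU N F φ) ⊓ C.P.B = ⊥) (a b : Fin N) (hab : a < b) (h1 : a ≠ b.rev)
    (h2 : a ≠ a.rev) (h3 : b ≠ b.rev) : ¬ π a < π b := by
  intro hlt
  have hU : xS φ a b (ne_of_lt hab) 1 ∈ UH N F φ := xS_mem_UH C.inv a b _ h1 h2 h3 1
  set r : SUm N F φ := mk1 (xS φ a b (ne_of_lt hab) 1) hU (det_xS _ _ _ _ _) with hr
  have hrU : r ∈ UU N F φ := by
    rw [mem_UU]
    exact xS_isUpU hab 1
  have hr1 : r = 1 := by
    apply C.eq_one_of_conj hπ h r hrU
    intro i j hji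
    show ((xS φ a b (ne_of_lt hab) 1 : GL (Fin N) F) : Matrix (Fin N) (Fin N) F)
      (π⁻¹ i) (π⁻¹ j) = 0
    rw [xS_apply φ a b _ h3, if_neg, if_neg, if_neg, add_zero, add_zero]
    · rintro ⟨e1, e2⟩
      have hi : i = (π b).rev := by rw [← C.perm_rev hπ, e1]; simp
      have hj : j = (π a).rev := by rw [← C.perm_rev hπ, e2]; simp
      rw [hi, hj, Fin.rev_lt_rev] at hji
      exact absurd hlt (not_lt.2 hji.le)
    · rintro ⟨e1, e2⟩
      have hi : i = π a := by rw [e1]; simp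
      have hj : j = π b := by rw [e2]; simp
      rw [hi, hj] at hji
      exact absurd hlt (not_lt.2 hji.le)
    · intro e
      exact (ne_of_gt hji) (π⁻¹.injective e)
  have h4 := congrArg (fun g : SUm N F φ =>
    ((gl g : GL (Fin N) F) : Matrix (Fin N) (Fin N) F) a b) hr1
  simp only [gl_one, Units.val_one] at h4
  rw [Matrix.one_apply_ne (ne_of_lt hab)] at h4
  have h5 : ((gl r : GL (Fin N) F) : Matrix (Fin N) (Fin N) F) a b = 1 := by
    show ((xS φ a b (ne_of_lt hab) 1 : GL (Fin N) F) : Matrix (Fin N) (Fin N) F) a b = 1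
    rw [xS_apply φ a b _ h3, if_neg (ne_of_lt hab), if_pos ⟨rfl, rfl⟩, if_neg, zero_add, add_zero]
    rintro ⟨e1, -⟩
    exact h1 e1.symm
  rw [h5] at h4
  exact one_ne_zero h4

/-- a monomial matrix `n` with `n U n⁻¹ ∩ B = 1` has the permutation of the longest element -/
theorem Ctx.perm_eq_rev (C : Ctx N F φ q) {n : SUm N F φ} {π : Equiv.Perm (Fin N)}
    (hπ : IsMono ((gl n : GL (Fin N) F) : Matrix (Fin N) (Fin N) F) π)
    (h : cj n (UU N F φ) ⊓ C.P.B = ⊥) : π = Fin.revPerm := by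
  by_contra hne
  have hτ : (Fin.revPerm : Equiv.Perm (Fin N)) * π ≠ 1 := by
    intro e
    apply hne
    have : π = (Fin.revPerm : Equiv.Perm (Fin N))⁻¹ := eq_inv_of_mul_eq_one_right e
    rw [this, revPerm_inv']
  obtain ⟨k, k', hk, hdesc⟩ := exists_adj_descent _ hτ
  rw [Equiv.Perm.mul_apply, Equiv.Perm.mul_apply, Fin.revPerm_apply, Fin.revPerm_apply,
    Fin.rev_lt_rev] at hdesc
  have hkk' : k < k' := by rw [Fin.lt_def]; omega
  have hk2 := k.2
  have hk2' := k'.2
  have hv : ∀ x : Fin N, ((x.rev : Fin N) : ℕ) = N - (x + 1) := fun x => Fin.val_rev x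
  by_cases c1 : (k : ℕ) + (k' : ℕ) + 1 = N
  · -- `k' = k.rev`
    have e : k' = k.rev := by
      apply Fin.ext
      rw [hv]
      omega
    have hlt : k < k.rev := by rw [← e]; exact hkk'
    apply C.not_lt_long hπ h k hlt
    rw [← e]
    exact hdesc
  by_cases c2 : 2 * (k' : ℕ) + 1 = N
  · -- `k'` is the middle position
    have e : k'.rev = k' := by
      apply Fin.ext
      rw [hv]
      omega
    have hlt : k < k.rev := by
      rw [Fin.lt_def, hv]
      omega
    apply C.not_lt_long hπ h k hlt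
    rw [C.perm_rev hπ]
    have h1 : (π k').rev = π k' := by rw [← C.perm_rev hπ, e]
    have h2 := congrArg Fin.val h1
    rw [hv] at h2
    have h3 : (π k : ℕ) < π k' := hdesc
    rw [Fin.lt_def, hv]
    have := (π k').2
    omega
  by_cases c3 : 2 * (k : ℕ) + 1 = N
  · -- `k` is the middle position
    have e : k.rev = k := by
      apply Fin.ext
      rw [hv]
      omega
    have hlt : k'.rev < k'.rev.rev := by
      rw [Fin.rev_rev, Fin.lt_def, hv]
      omega
    apply C.not_lt_long hπ h k'.rev hlt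
    rw [Fin.rev_rev, C.perm_rev hπ]
    have h1 : (π k).rev = π k := by rw [← C.perm_rev hπ, e]
    have h2 := congrArg Fin.val h1
    rw [hv] at h2
    have h3 : (π k : ℕ) < π k' := hdesc
    rw [Fin.lt_def, hv]
    have := (π k).2
    omega
  · apply C.not_lt_short hπ h k k' hkk' _ _ _ hdesc
    · intro e
      have := congrArg Fin.val e
      rw [hv] at this
      omega
    · intro e
      have := congrArg Fin.val e
      rw [hv] at this
      omega
    · intro e
      have := congrArg Fin.val e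
      rw [hv] at this
      omega

/-- a conjugate of `U` meeting `B` trivially is a conjugate of `V` under `B` -/
theorem Ctx.hopp (C : Ctx N F φ q) (g : SUm N F φ) (hg : cj g (UU N F φ) ⊓ C.P.B = ⊥) :
    ∃ b ∈ C.P.B, cj g (UU N F φ) = cj b (VV N F φ) := by
  obtain ⟨n, hn⟩ := exists_N_mem_D C.P g
  rw [mem_D] at hn
  obtain ⟨b1, hb1, b2, hb2, rfl⟩ := hn
  have hnorm : ∀ b ∈ C.P.B, cj b (UU N F φ) = UU N F φ := by
    intro b hb
    apply cj_of_mem_normalizer
    rw [C.normalizer_UU]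
    exact hb
  have e : cj (b1 * (n : SUm N F φ) * b2) (UU N F φ)
      = cj b1 (cj (n : SUm N F φ) (UU N F φ)) := by
    rw [cj_mul, ← cj_mul (b1 * (n : SUm N F φ)) b2, hnorm b2 hb2]
  rw [e] at hg
  have hB1 : cj b1 C.P.B = C.P.B := cj_of_mem_normalizer (Subgroup.le_normalizer hb1)
  have h1 : cj (n : SUm N F φ) (UU N F φ) ⊓ C.P.B = ⊥ := by
    apply eq_bot_of_cj_eq_bot (g := b1)
    rw [cj_inf, hB1]
    exact hg
  obtain ⟨π, hπ⟩ := mem_monoN.1 (C.mem_P_N.1 n.2)
  have hπr := C.perm_eq_rev hπ h1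
  set t : SUm N F φ := (n : SUm N F φ) * C.n0⁻¹ with ht
  have htm : IsMono ((gl t : GL (Fin N) F) : Matrix (Fin N) (Fin N) F) 1 := by
    rw [ht, gl_mul, gl_inv, Units.val_mul]
    have := hπ.mul C.isMono_n0.inv
    rw [hπr, revPerm_inv', revPerm_mul_self] at this
    exact this
  have htB : t ∈ C.P.B := by
    rw [C.P_B, mem_BB]
    exact mem_upper.1 (mem_upper_of_isMono_one htm)
  have hn : (n : SUm N F φ) = t * C.n0 := by rw [ht]; group
  refine ⟨b1 * t, mul_mem hb1 htB, ?_⟩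
  rw [e, hn, ← cj_mul t C.n0, C.cj_n0_UU, cj_mul]

end Cfsg.Agent.Lib.Helper5.AutSU
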