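import Cfsg.Agent.Lib.Helper5.AutSU.Facts5
import Mathlib

/-!
# The special unitary group: explicit root elements which do not commute (helper5)
-/

set_option autoImplicit false

namespace Cfsg.Agent.Lib.Helper5.AutSU

open Matrix Cfsg Cfsg.Agent.Lib.Helper5.GLBN Cfsg.Agent.Lib.Helper8.SpBN
open Cfsg.Agent.Lib.Helper8.Tw Cfsg.Agent.PSUT
open scoped MatrixGroups

section entries

variable {N : ℕ} {F : Type*} [Field F]

/-- left multiplication by a transvection adds a multiple of a row -/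
theorem tv_mul_apply (a b : Fin N) (hab : a ≠ b) (c : F) (M : Matrix (Fin N) (Fin N) F)
    (i k : Fin N) :
    (((tv a b hab c : GL (Fin N) F) : Matrix (Fin N) (Fin N) F) * M) i k
      = M i k + if i = a then c * M b k else 0 := by
  rw [tv_coe]
  unfold transvection
  rw [Matrix.add_mul, Matrix.one_mul, Matrix.add_apply]
  by_cases h : i = a
  · subst h
    rw [if_pos rfl, Matrix.single_mul_apply_same]
  · rw [if_neg h, Matrix.single_mul_apply_of_ne (h := h)]

theorem xS_mul_apply_row (φ : F →+* F) (a b : Fin N) (hab : a ≠ b) (h1 : a ≠ b.rev)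
    (h3 : b ≠ b.rev) (c : F) (M : Matrix (Fin N) (Fin N) F) (k : Fin N) :
    (((xS φ a b hab c : GL (Fin N) F) : Matrix (Fin N) (Fin N) F) * M) a k
      = M a k + c * M b k := by
  unfold xS
  rw [Units.val_mul, Matrix.mul_assoc, tv_mul_apply, if_pos rfl, tv_mul_apply, if_neg h1,
    tv_mul_apply, if_neg h3, add_zero, add_zero]

theorem xS_mul_apply_other (φ : F →+* F) (a b : Fin N) (hab : a ≠ b) (c : F)
    (M : Matrix (Fin N) (Fin N) F) (i k : Fin N) (hi : i ≠ a) (hi' : i ≠ b.rev) :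
    (((xS φ a b hab c : GL (Fin N) F) : Matrix (Fin N) (Fin N) F) * M) i k = M i k := by
  unfold xS
  rw [Units.val_mul, Matrix.mul_assoc, tv_mul_apply, if_neg hi, tv_mul_apply, if_neg hi',
    add_zero, add_zero]

/-- the entries which show that opposite short root elements do not commute -/
theorem xS_xS_opp (φ : F →+* F) (a b : Fin N) (hab : a ≠ b) (h1 : a ≠ b.rev) (h2 : a ≠ a.rev)
    (h3 : b ≠ b.rev) (c d : F) :
    ((xS φ a b hab c * xS φ b a hab.symm d : GL (Fin N) F) : Matrix (Fin N) (Fin N) F) a b = c ∧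
    ((xS φ b a hab.symm d * xS φ a b hab c : GL (Fin N) F) : Matrix (Fin N) (Fin N) F) a b = c ∧
    ((xS φ a b hab c * xS φ b a hab.symm d : GL (Fin N) F) : Matrix (Fin N) (Fin N) F) a a
      = 1 + c * d ∧
    ((xS φ b a hab.symm d * xS φ a b hab c : GL (Fin N) F) : Matrix (Fin N) (Fin N) F) a a
      = 1 := by
  have h1' : b.rev ≠ a := fun e => h1 e.symm
  have h2' : a.rev ≠ a := fun e => h2 e.symm
  have h3' : b.rev ≠ b := fun e => h3 e.symm
  have h4 : a.rev ≠ b := fun e => h1 (by rw [← e, Fin.rev_rev])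
  have hba : b ≠ a := hab.symm
  refine ⟨?_, ?_, ?_, ?_⟩
  · rw [Units.val_mul, xS_mul_apply_row φ a b hab h1 h3, xS_apply φ b a _ h2, xS_apply φ b a _ h2]
    simp [hab, hba, h2', h4]
  · rw [Units.val_mul, xS_mul_apply_other φ b a _ d _ a b hab h2, xS_apply φ a b _ h3]
    simp [hab, h1']
  · rw [Units.val_mul, xS_mul_apply_row φ a b hab h1 h3, xS_apply φ b a _ h2, xS_apply φ b a _ h2]
    simp [hab, hba, h2', h4]
  · rw [Units.val_mul, xS_mul_apply_other φ b a _ d _ a a hab h2, xS_apply φ a b _ h3]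
    simp [hba, h1']

/-- the entries which show that opposite long root elements do not commute -/
theorem xL_xL_opp (a : Fin N) (ha : a ≠ a.rev) (ha' : a.rev ≠ a.rev.rev) (c d : F) :
    ((xL a ha c * xL a.rev ha' d : GL (Fin N) F) : Matrix (Fin N) (Fin N) F) a a.rev = c ∧
    ((xL a.rev ha' d * xL a ha c : GL (Fin N) F) : Matrix (Fin N) (Fin N) F) a a.rev = c ∧
    ((xL a ha c * xL a.rev ha' d : GL (Fin N) F) : Matrix (Fin N) (Fin N) F) a a = 1 + c * d ∧
    ((xL a.rev ha' d * xL a ha c : GL (Fin N) F) : Matrix (Fin N) (Fin N) F) a a = 1 := by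
  have h2' : a.rev ≠ a := fun e => ha e.symm
  unfold xL
  refine ⟨?_, ?_, ?_, ?_⟩
  · rw [Units.val_mul, tv_mul_apply, if_pos rfl, tv_apply, tv_apply]
    simp [ha, h2']
  · rw [Units.val_mul, tv_mul_apply, if_neg ha, tv_apply]
    simp [ha]
  · rw [Units.val_mul, tv_mul_apply, if_pos rfl, tv_apply, tv_apply]
    simp [ha, h2']
  · rw [Units.val_mul, tv_mul_apply, if_neg ha, tv_apply]
    simp [ha, h2']

/-- the entries which show that adjacent short root elements do not commute -/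
theorem xS_xS_adj (φ : F →+* F) (a b e : Fin N) (hab : a ≠ b) (hbe : b ≠ e) (hae : a ≠ e)
    (h1 : a ≠ b.rev) (h3 : b ≠ b.rev) (h4 : a ≠ e.rev) (h5 : b ≠ e.rev) (h6 : e ≠ e.rev)
    (c d : F) :
    ((xS φ a b hab c * xS φ b e hbe d : GL (Fin N) F) : Matrix (Fin N) (Fin N) F) a e = c * d ∧
    ((xS φ b e hbe d * xS φ a b hab c : GL (Fin N) F) : Matrix (Fin N) (Fin N) F) a e = 0 := by
  have h4' : e.rev ≠ a := fun e' => h4 e'.symm
  have h5' : e.rev ≠ b := fun e' => h5 e'.symm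
  have h1' : b.rev ≠ a := fun e' => h1 e'.symm
  have hba : b ≠ a := hab.symm
  constructor
  · rw [Units.val_mul, xS_mul_apply_row φ a b hab h1 h3, xS_apply φ b e _ h6, xS_apply φ b e _ h6]
    simp [hae, hba, hbe, h4', h5']
  · rw [Units.val_mul, xS_mul_apply_other φ b e _ d _ a e hab h4, xS_apply φ a b _ h3]
    simp [hae, hbe, h1']

/-- the entries which show that a short and an adjacent long root element do not commute -/
theorem xS_xL_adj (φ : F →+* F) (a b : Fin N) (hab : a ≠ b) (h1 : a ≠ b.rev) (h3 : b ≠ b.rev)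
    (c d : F) :
    ((xS φ a b hab c * xL b h3 d : GL (Fin N) F) : Matrix (Fin N) (Fin N) F) a b.rev = c * d ∧
    ((xL b h3 d * xS φ a b hab c : GL (Fin N) F) : Matrix (Fin N) (Fin N) F) a b.rev = 0 := by
  have h1' : b.rev ≠ a := fun e' => h1 e'.symm
  have h3' : b.rev ≠ b := fun e' => h3 e'.symm
  have hba : b ≠ a := hab.symm
  constructor
  · rw [Units.val_mul, xS_mul_apply_row φ a b hab h1 h3]
    unfold xL
    rw [tv_apply, tv_apply]
    simp [h1, hba, h3]
  · unfold xL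
    rw [Units.val_mul, tv_mul_apply, if_neg hab, xS_apply φ a b _ h3]
    simp [h1, h3, h1']

end entries

section grp

variable {N : ℕ} {F : Type*} [Field F] [Fintype F] {φ : F →+* F} {q : ℕ}

/-- the central elements are diagonal -/
theorem Ctx.center_offdiag (C : Ctx N F φ q) {z : SUm N F φ}
    (hz : z ∈ Subgroup.center (SUm N F φ)) (a b : Fin N) (hab : a ≠ b) :
    ((gl z : GL (Fin N) F) : Matrix (Fin N) (Fin N) F) a b = 0 := by
  have hB : z ∈ BB N F φ := by
    rw [← C.P_B]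
    exact C.center_le_B hz
  have hlow : ∀ a b : Fin N, b < a →
      ((gl z : GL (Fin N) F) : Matrix (Fin N) (Fin N) F) a b = 0 := mem_BB.1 hB
  rcases lt_or_gt_of_ne hab with h | h
  · have e : C.n0⁻¹ * z * C.n0 = z := by
      rw [mul_assoc, ← Subgroup.mem_center_iff.1 hz C.n0, ← mul_assoc, inv_mul_cancel, one_mul]
    have h1 := (C.n0_conj_eq_zero_iff z a b).2 (hlow a.rev b.rev (Fin.rev_lt_rev.2 h))
    rwa [e] at h1
  · exact hlow a b h

/-- two elements with distinct images in the central quotient, from their entries -/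
theorem Ctx.map_ne_of_entries (C : Ctx N F φ q) {Q : Type*} [Group Q] (f : SUm N F φ →* Q)
    (hker : f.ker = Subgroup.center (SUm N F φ)) (u v : SUm N F φ) (a b : Fin N)
    (h1 : ((gl u : GL (Fin N) F) : Matrix (Fin N) (Fin N) F) a b
      = ((gl v : GL (Fin N) F) : Matrix (Fin N) (Fin N) F) a b)
    (h2 : ((gl v : GL (Fin N) F) : Matrix (Fin N) (Fin N) F) a b ≠ 0)
    (h3 : ((gl u : GL (Fin N) F) : Matrix (Fin N) (Fin N) F) a a
      ≠ ((gl v : GL (Fin N) F) : Matrix (Fin N) (Fin N) F) a a) : f u ≠ f v := by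
  intro h
  have hz : u * v⁻¹ ∈ Subgroup.center (SUm N F φ) := by
    rw [← hker, MonoidHom.mem_ker, map_mul, map_inv, h, mul_inv_cancel]
  have e : gl u = gl (u * v⁻¹) * gl v := by rw [← gl_mul, inv_mul_cancel_right]
  have key : ∀ k, ((gl u : GL (Fin N) F) : Matrix (Fin N) (Fin N) F) a k
      = ((gl (u * v⁻¹) : GL (Fin N) F) : Matrix (Fin N) (Fin N) F) a a
        * ((gl v : GL (Fin N) F) : Matrix (Fin N) (Fin N) F) a k := by
    intro k
    have e' : ((gl u : GL (Fin N) F) : Matrix (Fin N) (Fin N) F)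
        = ((gl (u * v⁻¹) : GL (Fin N) F) : Matrix (Fin N) (Fin N) F)
          * ((gl v : GL (Fin N) F) : Matrix (Fin N) (Fin N) F) := by
      rw [← Units.val_mul, ← e]
    rw [e', Matrix.mul_apply, Finset.sum_eq_single a]
    · intro j _ hj
      rw [C.center_offdiag hz a j (Ne.symm hj), zero_mul]
    · intro hh
      exact absurd (Finset.mem_univ _) hh
  have hζ : ((gl (u * v⁻¹) : GL (Fin N) F) : Matrix (Fin N) (Fin N) F) a a = 1 := by
    have h4 := key b
    rw [h1] at h4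
    have h5 : 1 * ((gl v : GL (Fin N) F) : Matrix (Fin N) (Fin N) F) a b
        = ((gl (u * v⁻¹) : GL (Fin N) F) : Matrix (Fin N) (Fin N) F) a a
          * ((gl v : GL (Fin N) F) : Matrix (Fin N) (Fin N) F) a b := by
      rw [one_mul]
      exact h4
    exact (mul_right_cancel₀ h2 h5).symm
  apply h3
  rw [key a, hζ, one_mul]

/-- the central quotient map is injective on `U` -/
theorem Ctx.f_inj_UU (C : Ctx N F φ q) {Q : Type*} [Group Q] (f : SUm N F φ →* Q)
    (hker : f.ker = Subgroup.center (SUm N F φ)) {u v : SUm N F φ} (hu : u ∈ UU N F φ)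
    (hv : v ∈ UU N F φ) (h : f u = f v) : u = v := by
  have h1 : u * v⁻¹ ∈ UU N F φ ⊓ Subgroup.center (SUm N F φ) := by
    refine Subgroup.mem_inf.2 ⟨mul_mem hu (inv_mem hv), ?_⟩
    rw [← hker, MonoidHom.mem_ker, map_mul, map_inv, h, mul_inv_cancel]
  rw [C.UU_inf_center, Subgroup.mem_bot] at h1
  exact mul_inv_eq_one.1 h1

/-- opposite root subgroups of a node do not commute modulo the centre -/
theorem Ctx.hncomm (C : Ctx N F φ q) {Q : Type*} [Group Q] (f : SUm N F φ →* Q)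
    (hker : f.ker = Subgroup.center (SUm N F φ)) {j : ℕ} (hj : j < N / 2) :
    ∃ x ∈ Xp N F φ j, ∃ y ∈ Xm N F φ j, f (x * y) ≠ f (y * x) := by
  by_cases hs : 2 * j + 4 ≤ N
  · refine ⟨xpS C.inv j hs 1, xpS_mem_Xp C.inv j hs 1, xmS C.inv j hs 1,
      xmS_mem_Xm C.inv j hs 1, ?_⟩
    obtain ⟨e1, e2, e3, e4⟩ := xS_xS_opp φ (⟨j, by omega⟩ : Fin N) ⟨j + 1, by omega⟩
      (fin_ne (by simp)) (fin_ne (by rw [val_rev_mk]; simp only; omega))
      (fin_ne (by rw [val_rev_mk]; simp only; omega))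
      (fin_ne (by rw [val_rev_mk]; simp only; omega)) 1 1
    apply C.map_ne_of_entries f hker _ _ (⟨j, by omega⟩ : Fin N) ⟨j + 1, by omega⟩
    · rw [gl_mul, gl_mul, gl_xpS, gl_xmS, e1, e2]
    · rw [gl_mul, gl_xpS, gl_xmS, e2]
      exact one_ne_zero
    · rw [gl_mul, gl_mul, gl_xpS, gl_xmS, e3, e4]
      simp
  · obtain ⟨z, hz0, hz⟩ := C.skew
    have hj2 : 2 * j + 2 ≤ N := by omega
    refine ⟨xpL j hj2 z hz, xpL_mem_Xp j hj2 (by omega) z hz, xmL j hj2 z hz,
      xmL_mem_Xm j hj2 (by omega) z hz, ?_⟩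
    obtain ⟨e1, e2, e3, e4⟩ := xL_xL_opp (⟨j, by omega⟩ : Fin N)
      (fin_ne (by rw [val_rev_mk]; simp only; omega))
      (fin_ne (by rw [Fin.rev_rev, val_rev_mk]; simp only; omega)) z z
    apply C.map_ne_of_entries f hker _ _ (⟨j, by omega⟩ : Fin N) (⟨j, by omega⟩ : Fin N).rev
    · rw [gl_mul, gl_mul, gl_xpL, gl_xmL, e1, e2]
    · rw [gl_mul, gl_xpL, gl_xmL, e2]
      exact hz0
    · rw [gl_mul, gl_mul, gl_xpL, gl_xmL, e3, e4]
      intro h
      have h' : z * z = 0 := by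
        have := congrArg (fun t => t - 1) h
        simpa using this
      exact hz0 (mul_self_eq_zero.1 h')

/-- the positive root subgroups of adjacent nodes do not commute -/
theorem Ctx.adj_ncomm (C : Ctx N F φ q) {i : ℕ} (hi : i + 1 < N / 2) :
    ∃ x ∈ Xp N F φ i, ∃ y ∈ Xp N F φ (i + 1), x * y ≠ y * x := by
  have hi4 : 2 * i + 4 ≤ N := by omega
  by_cases hs : 2 * (i + 1) + 4 ≤ N
  · refine ⟨xpS C.inv i hi4 1, xpS_mem_Xp C.inv i hi4 1, xpS C.inv (i + 1) hs 1,
      xpS_mem_Xp C.inv (i + 1) hs 1, ?_⟩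
    intro e
    obtain ⟨e1, e2⟩ := xS_xS_adj φ (⟨i, by omega⟩ : Fin N) ⟨i + 1, by omega⟩
      ⟨i + 1 + 1, by omega⟩ (fin_ne (by simp)) (fin_ne (by simp))
      (fin_ne (by simp only; omega))
      (fin_ne (by rw [val_rev_mk]; simp only; omega))
      (fin_ne (by rw [val_rev_mk]; simp only; omega))
      (fin_ne (by rw [val_rev_mk]; simp only; omega))
      (fin_ne (by rw [val_rev_mk]; simp only; omega))
      (fin_ne (by rw [val_rev_mk]; simp only; omega)) 1 1
    have e' := congrArg (fun g => ((gl g : GL (Fin N) F) : Matrix (Fin N) (Fin N) F)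
      (⟨i, by omega⟩ : Fin N) ⟨i + 1 + 1, by omega⟩) e
    simp only [gl_mul, gl_xpS] at e'
    rw [e1, e2] at e'
    simp at e'
  · obtain ⟨z, hz0, hz⟩ := C.skew
    have hj2 : 2 * (i + 1) + 2 ≤ N := by omega
    refine ⟨xpS C.inv i hi4 1, xpS_mem_Xp C.inv i hi4 1, xpL (i + 1) hj2 z hz,
      xpL_mem_Xp (i + 1) hj2 (by omega) z hz, ?_⟩
    intro e
    obtain ⟨e1, e2⟩ := xS_xL_adj φ (⟨i, by omega⟩ : Fin N) ⟨i + 1, by omega⟩
      (fin_ne (by simp)) (fin_ne (by rw [val_rev_mk]; simp only; omega))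
      (fin_ne (by rw [val_rev_mk]; simp only; omega)) 1 z
    have e' := congrArg (fun g => ((gl g : GL (Fin N) F) : Matrix (Fin N) (Fin N) F)
      (⟨i, by omega⟩ : Fin N) (⟨i + 1, by omega⟩ : Fin N).rev) e
    simp only [gl_mul, gl_xpS, gl_xpL] at e'
    rw [e1, e2] at e'
    rw [one_mul] at e'
    exact hz0 e'

end grp

end Cfsg.Agent.Lib.Helper5.AutSU
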