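import Cfsg.Agent.Lib.Helper5.AutSU.Facts6
import Mathlib

/-!
# The special unitary group: the root elements of the last node in odd dimension (helper5)
-/

set_option autoImplicit false

namespace Cfsg.Agent.Lib.Helper5.AutSU

open Matrix Cfsg Cfsg.Agent.Lib.Helper5.GLBN Cfsg.Agent.Lib.Helper8.SpBN
open Cfsg.Agent.Lib.Helper8.Tw Cfsg.Agent.PSUT
open scoped MatrixGroups

section entries

variable {N : ℕ} {F : Type*} [Field F]

/-- the commutator relation of two composable transvections -/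
theorem tv_tv_comm3 (k m e : Fin N) (hkm : k ≠ m) (hme : m ≠ e) (hke : k ≠ e) (a p : F) :
    tv k m hkm a * tv m e hme p = tv m e hme p * tv k m hkm a * tv k e hke (a * p) := by
  apply Units.ext
  rw [Units.val_mul, Units.val_mul, Units.val_mul, tv_coe, tv_coe, tv_coe]
  unfold transvection
  have h1 : Matrix.single m e p * Matrix.single k m a = 0 :=
    Matrix.single_mul_single_of_ne p m e k hke.symm a
  have h2 : Matrix.single m e p * Matrix.single k e (a * p) = 0 :=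
    Matrix.single_mul_single_of_ne p m e k hke.symm (a * p)
  have h3 : Matrix.single k m a * Matrix.single k e (a * p) = 0 :=
    Matrix.single_mul_single_of_ne a k m k hkm.symm (a * p)
  simp only [Matrix.add_mul, Matrix.mul_add, Matrix.one_mul, Matrix.mul_one,
    Matrix.single_mul_single_same, h1, h2, h3, add_zero]
  abel

theorem usig_tv' (φ : F →+* F) (a b a' b' : Fin N) (hab : a ≠ b) (ha : b.rev = a')
    (hb : a.rev = b') (hab' : a' ≠ b') (c : F) :
    usig φ (tv a b hab c) = tv a' b' hab' (-(φ c)) := by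
  subst ha hb
  exact usig_tv φ a b hab c

/-- the root elements of the last node in odd dimension are unitary -/
theorem xO_mem_UH (φ : F →+* F) (hφ : ∀ x, φ (φ x) = x) (k m : Fin N) (hkm : k ≠ m)
    (hmk : m ≠ k.rev) (hk : k ≠ k.rev) (hm : m.rev = m) (a b : F)
    (hb : b + φ b + a * φ a = 0) : xO φ k m hkm hmk hk a b ∈ UH N F φ := by
  rw [mem_UH]
  unfold xO
  rw [map_mul, map_mul, usig_tv' φ m k.rev k m hmk (Fin.rev_rev k) hm hkm,
    usig_tv' φ k m m k.rev hkm hm rfl hmk, usig_tv' φ k k.rev k k.rev hk (Fin.rev_rev k) rfl hk,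
    map_neg, neg_neg, hφ, tv_tv_comm3 k m k.rev hkm hmk hk, mul_assoc, tv_mul_tv]
  have e : a * -(φ a) + -(φ b) = b := by linear_combination (-1 : F) * hb
  rw [e]

theorem det_xO (φ : F →+* F) (k m : Fin N) (hkm : k ≠ m) (hmk : m ≠ k.rev) (hk : k ≠ k.rev)
    (a b : F) :
    ((xO φ k m hkm hmk hk a b : GL (Fin N) F) : Matrix (Fin N) (Fin N) F).det = 1 := by
  unfold xO
  rw [Units.val_mul, Units.val_mul, Matrix.det_mul, Matrix.det_mul, det_tv, det_tv, det_tv,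
    mul_one, mul_one]

/-- the entries of the root elements of the last node in odd dimension -/
theorem xO_apply (φ : F →+* F) (k m : Fin N) (hkm : k ≠ m) (hmk : m ≠ k.rev) (hk : k ≠ k.rev)
    (a b : F) (i j : Fin N) :
    ((xO φ k m hkm hmk hk a b : GL (Fin N) F) : Matrix (Fin N) (Fin N) F) i j
      = (if i = j then 1 else 0) + (if k = i ∧ k.rev = j then b else 0)
        + (if k = i ∧ m = j then a else 0) + (if m = i ∧ k.rev = j then -(φ a) else 0) := by
  unfold xO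
  rw [Units.val_mul, Units.val_mul, Matrix.mul_assoc]
  simp only [tv_mul_apply, tv_apply]
  have hmk' : k.rev ≠ m := hmk.symm
  have hk' : k.rev ≠ k := hk.symm
  have hmk2 : m ≠ k := hkm.symm
  by_cases h1 : i = k
  · subst h1
    simp [hkm, hk, hmk2, hmk]
  · by_cases h2 : i = m
    · subst h2
      simp [hmk2, hmk', hk', hmk, h1, hkm, hk]
    · have h1' : k ≠ i := fun e => h1 e.symm
      have h2' : m ≠ i := fun e => h2 e.symm
      simp [h1, h2, h1', h2']

theorem xO_mul_apply_row (φ : F →+* F) (k m : Fin N) (hkm : k ≠ m) (hmk : m ≠ k.rev)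
    (hk : k ≠ k.rev) (a b : F) (M : Matrix (Fin N) (Fin N) F) (j : Fin N) :
    (((xO φ k m hkm hmk hk a b : GL (Fin N) F) : Matrix (Fin N) (Fin N) F) * M) k j
      = M k j + a * M m j + b * M k.rev j := by
  unfold xO
  rw [Units.val_mul, Units.val_mul, Matrix.mul_assoc, Matrix.mul_assoc]
  simp only [tv_mul_apply, if_true, if_neg hkm, if_neg hkm.symm, add_zero]
  ring

/-- two root elements of the last node in odd dimension which do not commute -/
theorem xO_xO_ncomm (φ : F →+* F) (k m : Fin N) (hkm : k ≠ m) (hmk : m ≠ k.rev)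
    (hk : k ≠ k.rev) (a b a' b' : F) :
    ((xO φ k m hkm hmk hk a b * xO φ k m hkm hmk hk a' b' : GL (Fin N) F) :
      Matrix (Fin N) (Fin N) F) k k.rev = b' + b - a * φ a' := by
  rw [Units.val_mul, xO_mul_apply_row, xO_apply, xO_apply, xO_apply]
  have hmk' : k.rev ≠ m := hmk.symm
  have hk' : k.rev ≠ k := hk.symm
  have hmk2 : m ≠ k := hkm.symm
  simp [hkm, hk, hmk2, hmk, hmk', hk']
  ring

theorem xO_isUpU (φ : F →+* F) {k m : Fin N} (hkm : k < m) (hmk : m < k.rev) (a b : F) :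
    IsUpU ((xO φ k m (ne_of_lt hkm) (ne_of_lt hmk) (ne_of_lt (lt_trans hkm hmk)) a b :
      GL (Fin N) F) : Matrix (Fin N) (Fin N) F) := by
  unfold xO
  rw [Units.val_mul, Units.val_mul]
  exact ((tv_isUpU hmk _).mul (tv_isUpU hkm _)).mul (tv_isUpU (lt_trans hkm hmk) _)

theorem xO_isBlkU (φ : F →+* F) {j : ℕ} (hj : 2 * j + 2 ≤ N) {k m : Fin N} (hkm : k ≠ m)
    (hmk : m ≠ k.rev) (hk : k ≠ k.rev) (h1 : blk N j k m) (h2 : blk N j m k.rev)
    (h3 : blk N j k k.rev) (a b : F) :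
    IsBlkU j ((xO φ k m hkm hmk hk a b : GL (Fin N) F) : Matrix (Fin N) (Fin N) F) := by
  unfold xO
  rw [Units.val_mul, Units.val_mul]
  exact ((tv_isBlkU hmk h2 _).mul hj (tv_isBlkU hkm h1 _)).mul hj (tv_isBlkU hk h3 _)

end entries

section grp

variable {N : ℕ} {F : Type*} [Field F] [Fintype F] {φ : F →+* F} {q : ℕ}

theorem Ctx.exists_moved (C : Ctx N F φ q) : ∃ a : F, φ a ≠ a := by
  obtain ⟨a, ha⟩ := Cfsg.Agent.PSUT.exists_not_fixed C.hF
  exact ⟨a, by rw [C.hφ]; exact ha⟩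

theorem Ctx.exists_trace_ne (C : Ctx N F φ q) : ∃ w : F, w + φ w ≠ 0 := by
  by_cases h : (1 : F) + φ 1 = 0
  · obtain ⟨a, ha⟩ := C.exists_moved
    refine ⟨a, fun h' => ha ?_⟩
    rw [map_one] at h
    have e : φ a = -a := by
      rw [eq_neg_iff_add_eq_zero, add_comm]
      exact h'
    rw [e, neg_eq_iff_add_eq_zero]
    calc a + a = a * (1 + 1) := by ring
      _ = 0 := by rw [h, mul_zero]
  · exact ⟨1, h⟩

/-- the trace is onto the fixed field -/
theorem Ctx.exists_tr (C : Ctx N F φ q) (s : F) (hs : φ s = s) : ∃ b : F, b + φ b + s = 0 := by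
  obtain ⟨w, hw⟩ := C.exists_trace_ne
  have ht : φ (w + φ w) = w + φ w := by rw [map_add, C.inv, add_comm]
  refine ⟨-(s / (w + φ w)) * w, ?_⟩
  rw [map_mul, map_neg, map_div₀, hs, ht]
  field_simp
  ring

/-- in odd dimension the positive root subgroup of the last node is not abelian -/
theorem Ctx.odd_ncomm (C : Ctx N F φ q) {j : ℕ} (hj : 2 * j + 3 = N) :
    ∃ x ∈ Xp N F φ j, ∃ y ∈ Xp N F φ j, x * y ≠ y * x := by
  obtain ⟨a0, ha0⟩ := C.exists_moved
  obtain ⟨b1, hb1⟩ := C.exists_tr ((1 : F) * φ 1) (by rw [map_mul, C.inv, mul_comm])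
  obtain ⟨b2, hb2⟩ := C.exists_tr (a0 * φ a0) (by rw [map_mul, C.inv, mul_comm])
  have hk : j < N := by omega
  have hm : j + 1 < N := by omega
  have hkr : (((⟨j, hk⟩ : Fin N).rev : Fin N) : ℕ) + j + 1 = N := by
    rw [Fin.val_rev]
    simp only
    omega
  have hkm : (⟨j, hk⟩ : Fin N) < ⟨j + 1, hm⟩ := by
    rw [Fin.lt_def]
    simp
  have hmk : (⟨j + 1, hm⟩ : Fin N) < (⟨j, hk⟩ : Fin N).rev := by
    rw [Fin.lt_def]
    simp only
    omega
  have hmr : (⟨j + 1, hm⟩ : Fin N).rev = ⟨j + 1, hm⟩ := by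
    apply Fin.ext
    rw [Fin.val_rev]
    simp only
    omega
  have hB1 : blk N j ((⟨j, hk⟩ : Fin N) : ℕ) ((⟨j + 1, hm⟩ : Fin N) : ℕ) := by
    unfold blk
    right; left
    exact ⟨rfl, Or.inl rfl⟩
  have hB2 : blk N j ((⟨j + 1, hm⟩ : Fin N) : ℕ) (((⟨j, hk⟩ : Fin N).rev : Fin N) : ℕ) := by
    show blk N j (j + 1) (((⟨j, hk⟩ : Fin N).rev : Fin N) : ℕ)
    generalize (((⟨j, hk⟩ : Fin N).rev : Fin N) : ℕ) = r at hkr
    unfold blk
    omega
  have hB3 : blk N j ((⟨j, hk⟩ : Fin N) : ℕ) (((⟨j, hk⟩ : Fin N).rev : Fin N) : ℕ) := by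
    show blk N j j (((⟨j, hk⟩ : Fin N).rev : Fin N) : ℕ)
    generalize (((⟨j, hk⟩ : Fin N).rev : Fin N) : ℕ) = r at hkr
    unfold blk
    omega
  have hj2 : 2 * j + 2 ≤ N := by omega
  refine ⟨mk1 (xO φ ⟨j, hk⟩ ⟨j + 1, hm⟩ (ne_of_lt hkm) (ne_of_lt hmk)
      (ne_of_lt (lt_trans hkm hmk)) 1 b1)
      (xO_mem_UH φ C.inv _ _ _ _ _ hmr 1 b1 hb1) (det_xO _ _ _ _ _ _ _ _), ?_,
    mk1 (xO φ ⟨j, hk⟩ ⟨j + 1, hm⟩ (ne_of_lt hkm) (ne_of_lt hmk)
      (ne_of_lt (lt_trans hkm hmk)) a0 b2)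
      (xO_mem_UH φ C.inv _ _ _ _ _ hmr a0 b2 hb2) (det_xO _ _ _ _ _ _ _ _), ?_, ?_⟩
  · rw [mem_Xp hj2, gl_mk1]
    exact ⟨xO_isUpU φ hkm hmk 1 b1, xO_isBlkU φ hj2 _ _ _ hB1 hB2 hB3 1 b1⟩
  · rw [mem_Xp hj2, gl_mk1]
    exact ⟨xO_isUpU φ hkm hmk a0 b2, xO_isBlkU φ hj2 _ _ _ hB1 hB2 hB3 a0 b2⟩
  · intro e
    have e' := congrArg (fun g => ((gl g : GL (Fin N) F) : Matrix (Fin N) (Fin N) F)
      (⟨j, hk⟩ : Fin N) (⟨j, hk⟩ : Fin N).rev) e
    simp only [gl_mul, gl_mk1] at e'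
    rw [xO_xO_ncomm, xO_xO_ncomm, map_one] at e'
    apply ha0
    linear_combination (-1 : F) * e'

/-- in even dimension the elements of the positive root subgroup of the last node -/
theorem Ctx.even_param (C : Ctx N F φ q) {j : ℕ} (hj : 2 * j + 2 = N) (hk : j < N)
    (hne : (⟨j, hk⟩ : Fin N) ≠ (⟨j, hk⟩ : Fin N).rev) {g : SUm N F φ}
    (hg : g ∈ Xp N F φ j) :
    gl g = tv (⟨j, hk⟩ : Fin N) (⟨j, hk⟩ : Fin N).rev hne
        (((gl g : GL (Fin N) F) : Matrix (Fin N) (Fin N) F) ⟨j, hk⟩ (⟨j, hk⟩ : Fin N).rev) ∧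
      ((gl g : GL (Fin N) F) : Matrix (Fin N) (Fin N) F) ⟨j, hk⟩ (⟨j, hk⟩ : Fin N).rev
        + φ (((gl g : GL (Fin N) F) : Matrix (Fin N) (Fin N) F) ⟨j, hk⟩ (⟨j, hk⟩ : Fin N).rev)
        = 0 := by
  obtain ⟨hU, hB⟩ := (mem_Xp (by omega)).1 hg
  have hkr : (((⟨j, hk⟩ : Fin N).rev : Fin N) : ℕ) = j + 1 := by
    rw [Fin.val_rev]
    simp only
    omega
  have heq : gl g = tv (⟨j, hk⟩ : Fin N) (⟨j, hk⟩ : Fin N).rev hne
      (((gl g : GL (Fin N) F) : Matrix (Fin N) (Fin N) F) ⟨j, hk⟩ (⟨j, hk⟩ : Fin N).rev) := by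
    apply Units.ext
    ext a b
    rw [tv_apply]
    rcases lt_trichotomy a b with hab | hab | hab
    · by_cases h : (⟨j, hk⟩ : Fin N) = a ∧ (⟨j, hk⟩ : Fin N).rev = b
      · obtain ⟨rfl, rfl⟩ := h
        rw [if_neg hne, if_pos ⟨rfl, rfl⟩, zero_add]
      · rw [if_neg (ne_of_lt hab), if_neg h, add_zero]
        apply hB a b hab
        intro hb
        apply h
        have hab' : (a : ℕ) < b := hab
        have hb2 := b.2
        unfold blk at hb
        constructor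
        · apply Fin.ext
          simp only
          omega
        · apply Fin.ext
          rw [hkr]
          omega
    · subst hab
      rw [hU.2, if_pos rfl, if_neg, add_zero]
      rintro ⟨h1, h2⟩
      exact hne (h1.trans h2.symm)
    · rw [hU.1 a b hab, if_neg (ne_of_gt hab), if_neg, add_zero]
      rintro ⟨h1, h2⟩
      rw [← h1, ← h2, Fin.lt_def, hkr] at hab
      simp only at hab
      omega
  refine ⟨heq, ?_⟩
  have hu := gl_mem_UH g
  rw [heq, mem_UH, usig_tv' φ _ _ _ _ hne (Fin.rev_rev _) rfl hne] at hu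
  have h1 := congrArg (fun x : GL (Fin N) F => (x : Matrix (Fin N) (Fin N) F)
    (⟨j, hk⟩ : Fin N) (⟨j, hk⟩ : Fin N).rev) hu
  simp only [tv_apply_self] at h1
  linear_combination (-1 : F) * h1

end grp

end Cfsg.Agent.Lib.Helper5.AutSU
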