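import Cfsg.Agent.Lib.Helper5.AutSU.Param
import Mathlib

/-!
# The special unitary group: monomial elements in the rank one subgroups (helper5)

For every node `j` the subgroup generated by `Xp j` and `Xm j` contains a monomial element which
induces the reflection `rho N j`.
-/

set_option autoImplicit false

namespace Cfsg.Agent.Lib.Helper5.AutSU

open Matrix Cfsg Cfsg.Agent.Lib.Helper5.GLBN Cfsg.Agent.Lib.Helper8.SpBN
open Cfsg.Agent.Lib.Helper8.Tw Cfsg.Agent.PSUT
open scoped MatrixGroups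

section entries

variable {N : ℕ} {F : Type*} [Field F]

theorem xS_mul_apply_row2 (φ : F →+* F) (a b : Fin N) (hab : a ≠ b) (h1 : a ≠ b.rev) (c : F)
    (M : Matrix (Fin N) (Fin N) F) (k : Fin N) :
    (((xS φ a b hab c : GL (Fin N) F) : Matrix (Fin N) (Fin N) F) * M) b.rev k
      = M b.rev k + -(φ c) * M a.rev k := by
  unfold xS
  rw [Units.val_mul, Matrix.mul_assoc, tv_mul_apply, if_neg (fun e => h1 e.symm), add_zero,
    tv_mul_apply, if_pos rfl]

theorem xS_row_a (φ : F →+* F) (a b : Fin N) (hab : a ≠ b) (hb : b ≠ b.rev) (h1 : a ≠ b.rev)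
    (c : F) (k : Fin N) :
    ((xS φ a b hab c : GL (Fin N) F) : Matrix (Fin N) (Fin N) F) a k
      = (if a = k then 1 else 0) + (if b = k then c else 0) := by
  rw [xS_apply φ a b hab hb]
  have h1' : b.rev ≠ a := fun e => h1 e.symm
  simp [h1']

theorem xS_row_b' (φ : F →+* F) (a b : Fin N) (hab : a ≠ b) (hb : b ≠ b.rev) (h1 : a ≠ b.rev)
    (c : F) (k : Fin N) :
    ((xS φ a b hab c : GL (Fin N) F) : Matrix (Fin N) (Fin N) F) b.rev k
      = (if b.rev = k then 1 else 0) + (if a.rev = k then -(φ c) else 0) := by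
  rw [xS_apply φ a b hab hb]
  simp [h1]

theorem xS_row_other (φ : F →+* F) (a b : Fin N) (hab : a ≠ b) (hb : b ≠ b.rev) (c : F)
    (i k : Fin N) (hi : i ≠ a) (hi' : i ≠ b.rev) :
    ((xS φ a b hab c : GL (Fin N) F) : Matrix (Fin N) (Fin N) F) i k
      = if i = k then 1 else 0 := by
  rw [xS_apply φ a b hab hb]
  have h1 : a ≠ i := fun e => hi e.symm
  have h2 : b.rev ≠ i := fun e => hi' e.symm
  simp [h1, h2]

/-- the rows of the monomial element of a short node -/
theorem short_mono_rows (φ : F →+* F) (a b : Fin N) (hab : a ≠ b) (h1 : a ≠ b.rev)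
    (h2 : a ≠ a.rev) (h3 : b ≠ b.rev) :
    (∀ k, ((xS φ a b hab 1 * xS φ b a hab.symm (-1) * xS φ a b hab 1 : GL (Fin N) F) :
        Matrix (Fin N) (Fin N) F) a k = if b = k then 1 else 0) ∧
    (∀ k, ((xS φ a b hab 1 * xS φ b a hab.symm (-1) * xS φ a b hab 1 : GL (Fin N) F) :
        Matrix (Fin N) (Fin N) F) b k = if a = k then -1 else 0) ∧
    (∀ k, ((xS φ a b hab 1 * xS φ b a hab.symm (-1) * xS φ a b hab 1 : GL (Fin N) F) :
        Matrix (Fin N) (Fin N) F) b.rev k = if a.rev = k then -1 else 0) ∧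
    (∀ k, ((xS φ a b hab 1 * xS φ b a hab.symm (-1) * xS φ a b hab 1 : GL (Fin N) F) :
        Matrix (Fin N) (Fin N) F) a.rev k = if b.rev = k then 1 else 0) ∧
    (∀ i k, i ≠ a → i ≠ b → i ≠ a.rev → i ≠ b.rev →
      ((xS φ a b hab 1 * xS φ b a hab.symm (-1) * xS φ a b hab 1 : GL (Fin N) F) :
        Matrix (Fin N) (Fin N) F) i k = if i = k then 1 else 0) := by
  have hba : b ≠ a := hab.symm
  have h4 : b ≠ a.rev := fun e => h1 (by rw [e, Fin.rev_rev])
  have h2' : a.rev ≠ a := fun e => h2 e.symm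
  have h3' : b.rev ≠ b := fun e => h3 e.symm
  have h1' : b.rev ≠ a := fun e => h1 e.symm
  have h4' : a.rev ≠ b := fun e => h4 e.symm
  have h5 : a.rev ≠ b.rev := fun e => hab (Fin.rev_injective e)
  have h5' : b.rev ≠ a.rev := fun e => h5 e.symm
  refine ⟨?_, ?_, ?_, ?_, ?_⟩
  · intro k
    rw [Units.val_mul, Units.val_mul, Matrix.mul_assoc, xS_mul_apply_row φ a b hab h1 h3,
      xS_mul_apply_other φ b a hba (-1) _ a k hab h2, xS_mul_apply_row φ b a hba h4 h2,
      xS_row_a φ a b hab h3 h1, xS_row_other φ a b hab h3 1 b k hba h3]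
    ring
  · intro k
    rw [Units.val_mul, Units.val_mul, Matrix.mul_assoc,
      xS_mul_apply_other φ a b hab 1 _ b k hba h3, xS_mul_apply_row φ b a hba h4 h2,
      xS_row_a φ a b hab h3 h1, xS_row_other φ a b hab h3 1 b k hba h3]
    split_ifs <;> ring
  · intro k
    rw [Units.val_mul, Units.val_mul, Matrix.mul_assoc, xS_mul_apply_row2 φ a b hab h1,
      xS_mul_apply_other φ b a hba (-1) _ b.rev k h3' h5', xS_mul_apply_row2 φ b a hba h4,
      xS_row_b' φ a b hab h3 h1, xS_row_other φ a b hab h3 1 a.rev k h2' h5, map_one, map_neg,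
      map_one]
    split_ifs <;> ring
  · intro k
    rw [Units.val_mul, Units.val_mul, Matrix.mul_assoc,
      xS_mul_apply_other φ a b hab 1 _ a.rev k h2' h5, xS_mul_apply_row2 φ b a hba h4,
      xS_row_b' φ a b hab h3 h1, xS_row_other φ a b hab h3 1 a.rev k h2' h5, map_one, map_neg,
      map_one]
    split_ifs <;> ring
  · intro i k hia hib hia' hib'
    rw [Units.val_mul, Units.val_mul, Matrix.mul_assoc,
      xS_mul_apply_other φ a b hab 1 _ i k hia hib', xS_mul_apply_other φ b a hba (-1) _ i k hib hia',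
      xS_row_other φ a b hab h3 1 i k hia hib']

/-- the rows of the monomial element of a long root -/
theorem long_mono_rows (a : Fin N) (ha : a ≠ a.rev) (z w : F) (hzw : z * w = -1) :
    (∀ k, ((tv a a.rev ha z * tv a.rev a ha.symm w * tv a a.rev ha z : GL (Fin N) F) :
        Matrix (Fin N) (Fin N) F) a k = if a.rev = k then z else 0) ∧
    (∀ k, ((tv a a.rev ha z * tv a.rev a ha.symm w * tv a a.rev ha z : GL (Fin N) F) :
        Matrix (Fin N) (Fin N) F) a.rev k = if a = k then w else 0) ∧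
    (∀ i k, i ≠ a → i ≠ a.rev →
      ((tv a a.rev ha z * tv a.rev a ha.symm w * tv a a.rev ha z : GL (Fin N) F) :
        Matrix (Fin N) (Fin N) F) i k = if i = k then 1 else 0) := by
  have ha' : a.rev ≠ a := ha.symm
  refine ⟨?_, ?_, ?_⟩
  · intro k
    rw [Units.val_mul, Units.val_mul, Matrix.mul_assoc, tv_mul_apply, if_pos rfl, tv_mul_apply,
      if_neg ha, tv_mul_apply, if_pos rfl, tv_apply, tv_apply]
    by_cases h1 : a = k
    · subst h1
      simp [ha, ha']
      linear_combination hzw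
    · by_cases h2 : a.rev = k
      · subst h2
        simp [ha, ha']
        right
        linear_combination hzw
      · simp [h1, h2]
  · intro k
    rw [Units.val_mul, Units.val_mul, Matrix.mul_assoc, tv_mul_apply, if_neg ha', tv_mul_apply,
      if_pos rfl, tv_apply, tv_apply]
    by_cases h1 : a = k
    · subst h1
      simp [ha, ha']
    · by_cases h2 : a.rev = k
      · subst h2
        simp [ha, ha']
        linear_combination hzw
      · simp [h1, h2]
  · intro i k hia hia'
    rw [Units.val_mul, Units.val_mul, Matrix.mul_assoc, tv_mul_apply, if_neg hia, tv_mul_apply,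
      if_neg hia', tv_apply]
    have h1 : a ≠ i := fun e => hia e.symm
    simp [h1]

end entries

section grp

variable {N : ℕ} {F : Type*} [Field F] [Fintype F] {φ : F →+* F} {q : ℕ}

/-- the rank one subgroup of a node -/
def LL (N : ℕ) (F : Type*) [Field F] [Finite F] (φ : F →+* F) (j : ℕ) : Subgroup (SUm N F φ) :=
  Subgroup.closure ((Xp N F φ j : Set (SUm N F φ)) ∪ (Xm N F φ j : Set (SUm N F φ)))

theorem Xp_le_LL (j : ℕ) : Xp N F φ j ≤ LL N F φ j :=
  fun _ hx => Subgroup.subset_closure (Or.inl hx)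

theorem Xm_le_LL (j : ℕ) : Xm N F φ j ≤ LL N F φ j :=
  fun _ hx => Subgroup.subset_closure (Or.inr hx)

/-- the rank one subgroup of a short node contains a monomial element inducing the reflection -/
theorem Ctx.exists_mono_short (C : Ctx N F φ q) {j : ℕ} (hj : j + 1 < N / 2) :
    ∃ n : SUm N F φ, n ∈ LL N F φ j ∧
      IsMono ((gl n : GL (Fin N) F) : Matrix (Fin N) (Fin N) F) (rho N j) := by
  have hs : 2 * j + 4 ≤ N := by omega
  have ha : j < N := by omega
  have hb : j + 1 < N := by omega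
  refine ⟨xpS C.inv j hs 1 * xmS C.inv j hs (-1) * xpS C.inv j hs 1, ?_, ?_⟩
  · exact mul_mem (mul_mem (Xp_le_LL j (xpS_mem_Xp C.inv j hs 1))
      (Xm_le_LL j (xmS_mem_Xm C.inv j hs (-1)))) (Xp_le_LL j (xpS_mem_Xp C.inv j hs 1))
  · rw [gl_mul, gl_mul, gl_xpS, gl_xmS]
    have hra : (((⟨j, ha⟩ : Fin N).rev : Fin N) : ℕ) = N - (j + 1) := by rw [Fin.val_rev]
    have hrb : (((⟨j + 1, hb⟩ : Fin N).rev : Fin N) : ℕ) = N - (j + 1 + 1) := by
      rw [Fin.val_rev]
    obtain ⟨r1, r2, r3, r4, r5⟩ := short_mono_rows φ (⟨j, ha⟩ : Fin N) ⟨j + 1, hb⟩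
      (fin_ne (by simp)) (fin_ne (by rw [hrb]; simp only; omega))
      (fin_ne (by rw [hra]; simp only; omega)) (fin_ne (by rw [hrb]; simp only; omega))
    have hvj : ((⟨j, ha⟩ : Fin N) : ℕ) = j := rfl
    have hvj1 : ((⟨j + 1, hb⟩ : Fin N) : ℕ) = j + 1 := rfl
    intro i k hik
    by_cases h1 : i = ⟨j, ha⟩
    · rw [h1, r1, if_neg]
      intro e
      apply hik
      rw [h1, ← e]
      apply Fin.ext
      rw [rho_val_short hj]
      simp
    · by_cases h2 : i = ⟨j + 1, hb⟩
      · rw [h2, r2, if_neg]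
        intro e
        apply hik
        rw [h2, ← e]
        apply Fin.ext
        rw [rho_val_short hj]
        simp
      · by_cases h3 : i = (⟨j + 1, hb⟩ : Fin N).rev
        · rw [h3, r3, if_neg]
          intro e
          apply hik
          rw [h3, ← e]
          apply Fin.ext
          rw [rho_val_short hj, hra, hrb]
          split_ifs <;> omega
        · by_cases h4 : i = (⟨j, ha⟩ : Fin N).rev
          · rw [h4, r4, if_neg]
            intro e
            apply hik
            rw [h4, ← e]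
            apply Fin.ext
            rw [rho_val_short hj, hra, hrb]
            split_ifs <;> omega
          · rw [r5 i k h1 h2 h4 h3, if_neg]
            intro e
            apply hik
            rw [← e]
            apply Fin.ext
            have hv1 : (i : ℕ) ≠ j := fun e' => h1 (Fin.ext e')
            have hv2 : (i : ℕ) ≠ j + 1 := fun e' => h2 (Fin.ext e')
            have hv3 : (i : ℕ) ≠ N - (j + 1 + 1) := fun e' => h3 (Fin.ext (by rw [hrb]; exact e'))
            have hv4 : (i : ℕ) ≠ N - (j + 1) := fun e' => h4 (Fin.ext (by rw [hra]; exact e'))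
            rw [rho_val_short hj]
            split_ifs <;> omega

/-- the rank one subgroup of the last node contains a monomial element inducing the
reflection -/
theorem Ctx.exists_mono_last (C : Ctx N F φ q) {j : ℕ} (hj : j + 1 = N / 2) :
    ∃ n : SUm N F φ, n ∈ LL N F φ j ∧
      IsMono ((gl n : GL (Fin N) F) : Matrix (Fin N) (Fin N) F) (rho N j) := by
  have hj2 : 2 * j + 2 ≤ N := by omega
  have hl : N ≤ 2 * j + 3 := by omega
  have ha : j < N := by omega
  obtain ⟨z, hz0, hz⟩ := C.skew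
  have hφz : φ z = -z := by
    rw [eq_neg_iff_add_eq_zero, add_comm]
    exact hz
  have hw : -z⁻¹ + φ (-z⁻¹) = 0 := by
    rw [map_neg, map_inv₀, hφz, inv_neg, neg_neg, neg_add_cancel]
  have hzw : z * -z⁻¹ = -1 := by
    rw [mul_neg, mul_inv_cancel₀ hz0]
  refine ⟨xpL j hj2 z hz * xmL j hj2 (-z⁻¹) hw * xpL j hj2 z hz, ?_, ?_⟩
  · exact mul_mem (mul_mem (Xp_le_LL j (xpL_mem_Xp j hj2 hl z hz))
      (Xm_le_LL j (xmL_mem_Xm j hj2 hl (-z⁻¹) hw))) (Xp_le_LL j (xpL_mem_Xp j hj2 hl z hz))
  · rw [gl_mul, gl_mul, gl_xpL, gl_xmL]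
    unfold xL
    have hra : (((⟨j, ha⟩ : Fin N).rev : Fin N) : ℕ) = N - (j + 1) := by rw [Fin.val_rev]
    have hne : (⟨j, ha⟩ : Fin N) ≠ (⟨j, ha⟩ : Fin N).rev := fin_ne (by rw [hra]; simp only; omega)
    have e1 : tv (⟨j, ha⟩ : Fin N).rev (⟨j, ha⟩ : Fin N).rev.rev
        (fin_ne (by rw [Fin.rev_rev, val_rev_mk]; simp only; omega)) (-z⁻¹)
        = tv (⟨j, ha⟩ : Fin N).rev ⟨j, ha⟩ hne.symm (-z⁻¹) :=
      tv_congr3 rfl (Fin.rev_rev _) _ _ rfl
    rw [e1]
    obtain ⟨r1, r2, r3⟩ := long_mono_rows (⟨j, ha⟩ : Fin N) hne z (-z⁻¹) hzw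
    have hvj : ((⟨j, ha⟩ : Fin N) : ℕ) = j := rfl
    intro i k hik
    by_cases h1 : i = ⟨j, ha⟩
    · rw [h1, r1, if_neg]
      intro e
      apply hik
      rw [h1, ← e]
      apply Fin.ext
      rw [rho_val_mid hj, hra]
      split_ifs <;> omega
    · by_cases h2 : i = (⟨j, ha⟩ : Fin N).rev
      · rw [h2, r2, if_neg]
        intro e
        apply hik
        rw [h2, ← e]
        apply Fin.ext
        rw [rho_val_mid hj, hra]
        simp only
        split_ifs <;> omega
      · rw [r3 i k h1 h2, if_neg]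
        intro e
        apply hik
        rw [← e]
        apply Fin.ext
        have hv1 : (i : ℕ) ≠ j := fun e' => h1 (Fin.ext e')
        have hv2 : (i : ℕ) ≠ N - (j + 1) := fun e' => h2 (Fin.ext (by rw [hra]; exact e'))
        rw [rho_val_mid hj]
        split_ifs <;> omega

/-- the rank one subgroup of a node contains a monomial element inducing the reflection -/
theorem Ctx.exists_mono (C : Ctx N F φ q) {j : ℕ} (hj : j < N / 2) :
    ∃ n : SUm N F φ, n ∈ LL N F φ j ∧
      IsMono ((gl n : GL (Fin N) F) : Matrix (Fin N) (Fin N) F) (rho N j) := by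
  by_cases h : j + 1 < N / 2
  · exact C.exists_mono_short h
  · exact C.exists_mono_last (by omega)

end grp

end Cfsg.Agent.Lib.Helper5.AutSU
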