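import Cfsg.Agent.Lib.Helper5.AutSU.Gen1
import Mathlib

/-!
# The special unitary group: the positive root subgroups lie in the subgroup generated by the
fundamental ones (helper5)

A subgroup `H` which contains the fundamental positive root subgroups and, for every node, a
monomial element inducing the reflection of the node, contains all positive root subgroups.
-/

set_option autoImplicit false

namespace Cfsg.Agent.Lib.Helper5.AutSU

open Matrix Cfsg Cfsg.Agent.Lib.Helper5.GLBN Cfsg.Agent.Lib.Helper8.SpBN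
open Cfsg.Agent.Lib.Helper8.Tw Cfsg.Agent.PSUT
open scoped MatrixGroups

section shapes

variable {N : ℕ} {F : Type*} [Field F] {φ : F →+* F}

/-- the elements with ones on the diagonal whose entries off the diagonal vanish outside `P` -/
def Sh (N : ℕ) (F : Type*) [Field F] (φ : F →+* F) (P : Fin N → Fin N → Prop) :
    Set (SUm N F φ) :=
  {g | (∀ a, ((gl g : GL (Fin N) F) : Matrix (Fin N) (Fin N) F) a a = 1) ∧
    ∀ a b, a ≠ b → ¬ P a b → ((gl g : GL (Fin N) F) : Matrix (Fin N) (Fin N) F) a b = 0}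

theorem sh_mono {P P' : Fin N → Fin N → Prop} (h : ∀ i k, P i k → P' i k) :
    Sh N F φ P ⊆ Sh N F φ P' :=
  fun _ hg => ⟨hg.1, fun a b hab hP => hg.2 a b hab (fun hp => hP (h a b hp))⟩

/-- conjugation by a monomial element permutes the shapes -/
theorem sh_conj {n g : SUm N F φ} {π : Equiv.Perm (Fin N)}
    (hn : IsMono ((gl n : GL (Fin N) F) : Matrix (Fin N) (Fin N) F) π)
    {P : Fin N → Fin N → Prop} (hg : g ∈ Sh N F φ P) :
    n⁻¹ * g * n ∈ Sh N F φ (fun a b => P (π a) (π b)) := by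
  constructor
  · intro a
    rw [gl_mul, gl_mul, gl_inv, mono_conj_apply hn, hg.1, mul_one, IsMono_inv_apply hn]
  · intro a b hab hP
    rw [gl_mul, gl_mul, gl_inv, mono_conj_apply hn,
      hg.2 (π a) (π b) (fun e => hab (π.injective e)) hP, mul_zero, zero_mul]

/-- the step of the induction: a shape which a monomial element of `H` carries into a shape
inside `H` lies in `H` -/
theorem good_step (H : Subgroup (SUm N F φ)) {n : SUm N F φ} (hnH : n ∈ H)
    {π : Equiv.Perm (Fin N)}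
    (hn : IsMono ((gl n : GL (Fin N) F) : Matrix (Fin N) (Fin N) F) π)
    {P P' : Fin N → Fin N → Prop} (hP : Sh N F φ P ⊆ H)
    (hPP : ∀ i k, P' i k → P (π i) (π k)) : Sh N F φ P' ⊆ H := by
  intro g hg
  have h1 : IsMono ((gl n⁻¹ : GL (Fin N) F) : Matrix (Fin N) (Fin N) F) π⁻¹ := by
    rw [gl_inv]
    exact hn.inv
  have h2 := sh_conj h1 hg
  have h3 : (n⁻¹)⁻¹ * g * n⁻¹ ∈ H := by
    apply hP
    refine sh_mono ?_ h2
    intro a b h
    have := hPP _ _ h
    simpa using this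
  have e : g = n⁻¹ * ((n⁻¹)⁻¹ * g * n⁻¹) * n := by group
  rw [e]
  exact mul_mem (mul_mem (inv_mem hnH) h3) hnH

/-- the positions of a short root -/
def PS (a b : Fin N) : Fin N → Fin N → Prop :=
  fun i k => (i = a ∧ k = b) ∨ (i = b.rev ∧ k = a.rev)

/-- the position of a long root -/
def PL (a : Fin N) : Fin N → Fin N → Prop := fun i k => i = a ∧ k = a.rev

/-- the positions of a root of the last node in odd dimension -/
def PO (a m : Fin N) : Fin N → Fin N → Prop :=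
  fun i k => (i = a ∧ k = m) ∨ (i = m ∧ k = a.rev) ∨ (i = a ∧ k = a.rev)

theorem PS_comp (ρ : Equiv.Perm (Fin N)) (hρ : ρ * ρ = 1) (hr : ∀ x, ρ x.rev = (ρ x).rev)
    (a b i k : Fin N) (h : PS (ρ a) (ρ b) i k) : PS a b (ρ i) (ρ k) := by
  have hρ' : ∀ x, ρ (ρ x) = x := fun x => by
    rw [← Equiv.Perm.mul_apply, hρ, Equiv.Perm.one_apply]
  rcases h with ⟨rfl, rfl⟩ | ⟨rfl, rfl⟩
  · exact Or.inl ⟨hρ' a, hρ' b⟩
  · right
    rw [hr, hr, hρ', hρ']
    exact ⟨rfl, rfl⟩

theorem PL_comp (ρ : Equiv.Perm (Fin N)) (hρ : ρ * ρ = 1) (hr : ∀ x, ρ x.rev = (ρ x).rev)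
    (a i k : Fin N) (h : PL (ρ a) i k) : PL a (ρ i) (ρ k) := by
  have hρ' : ∀ x, ρ (ρ x) = x := fun x => by
    rw [← Equiv.Perm.mul_apply, hρ, Equiv.Perm.one_apply]
  obtain ⟨rfl, rfl⟩ := h
  rw [hr, hρ']
  exact ⟨rfl, rfl⟩

theorem PO_comp (ρ : Equiv.Perm (Fin N)) (hρ : ρ * ρ = 1) (hr : ∀ x, ρ x.rev = (ρ x).rev)
    (a m i k : Fin N) (h : PO (ρ a) (ρ m) i k) : PO a m (ρ i) (ρ k) := by
  have hρ' : ∀ x, ρ (ρ x) = x := fun x => by
    rw [← Equiv.Perm.mul_apply, hρ, Equiv.Perm.one_apply]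
  rcases h with ⟨rfl, rfl⟩ | ⟨rfl, rfl⟩ | ⟨rfl, rfl⟩
  · exact Or.inl ⟨hρ' a, hρ' m⟩
  · right; left
    rw [hr, hρ', hρ']
    exact ⟨rfl, rfl⟩
  · right; right
    rw [hr, hρ']
    exact ⟨rfl, rfl⟩

theorem PL_le_PO (a m : Fin N) (i k : Fin N) (h : PL a i k) : PO a m i k := Or.inr (Or.inr h)

/-! ### the reflections on explicit positions -/

theorem rho_rev {j : ℕ} (hj : j < N / 2) (x : Fin N) : rho N j x.rev = (rho N j x).rev :=
  (revC_eq_self_iff _).1 (revC_rho j hj) x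

theorem rho_fix_short {j : ℕ} (hj : j + 1 < N / 2) (x : Fin N) (h1 : (x : ℕ) ≠ j)
    (h2 : (x : ℕ) ≠ j + 1) (h3 : (x : ℕ) + j + 1 ≠ N) (h4 : (x : ℕ) + j + 2 ≠ N) :
    rho N j x = x := by
  apply Fin.ext
  rw [rho_val_short hj, if_neg h1, if_neg h2, if_neg h3, if_neg h4]

theorem rho_short_up {j : ℕ} (hj : j + 1 < N / 2) (x y : Fin N) (hx : (x : ℕ) = j)
    (hy : (y : ℕ) = j + 1) : rho N j x = y := by
  apply Fin.ext
  rw [rho_val_short hj, if_pos hx, hy]

theorem rho_short_down {j : ℕ} (hj : j + 1 < N / 2) (x y : Fin N) (hx : (x : ℕ) = j + 1)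
    (hy : (y : ℕ) = j) : rho N j x = y := by
  apply Fin.ext
  rw [rho_val_short hj, if_neg (by omega), if_pos hx, hy]

theorem rho_fix_mid {j : ℕ} (hj : j + 1 = N / 2) (x : Fin N) (h1 : (x : ℕ) ≠ j)
    (h2 : (x : ℕ) + j + 1 ≠ N) : rho N j x = x := by
  apply Fin.ext
  rw [rho_val_mid hj, if_neg h1, if_neg h2]

theorem rho_mid_swap {j : ℕ} (hj : j + 1 = N / 2) (x : Fin N) (hx : (x : ℕ) = j) :
    rho N j x = x.rev := by
  apply Fin.ext
  rw [rho_val_mid hj, if_pos hx, Fin.val_rev, hx]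
  omega

end shapes

section good

variable {N : ℕ} {F : Type*} [Field F] [Fintype F] {φ : F →+* F}

/-- a shape inside the upper blocks of a node lies in the positive root subgroup of the node -/
theorem sh_le_Xp {j : ℕ} (hj2 : 2 * j + 2 ≤ N) {P : Fin N → Fin N → Prop}
    (hP : ∀ i k, P i k → i < k ∧ blk N j i k) :
    Sh N F φ P ⊆ (Xp N F φ j : Set (SUm N F φ)) := by
  intro g hg
  rw [SetLike.mem_coe, mem_Xp hj2]
  refine ⟨⟨fun a b hba => hg.2 a b (ne_of_gt hba)
      (fun hp => absurd (hP a b hp).1 (not_lt.2 hba.le)), hg.1⟩,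
    fun a b hab hn => hg.2 a b (ne_of_lt hab) (fun hp => hn (hP a b hp).2)⟩

theorem sh_PS_le_Xp {j : ℕ} (hj : 2 * j + 4 ≤ N) :
    Sh N F φ (PS (⟨j, by omega⟩ : Fin N) ⟨j + 1, by omega⟩)
      ⊆ (Xp N F φ j : Set (SUm N F φ)) := by
  apply sh_le_Xp (by omega)
  have ha : j < N := by omega
  have hb : j + 1 < N := by omega
  have hra : (((⟨j, ha⟩ : Fin N).rev : Fin N) : ℕ) + j + 1 = N := by
    rw [Fin.val_rev]
    simp only
    omega
  have hrb : (((⟨j + 1, hb⟩ : Fin N).rev : Fin N) : ℕ) + j + 2 = N := by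
    rw [Fin.val_rev]
    simp only
    omega
  rintro i k (⟨rfl, rfl⟩ | ⟨rfl, rfl⟩)
  · refine ⟨by rw [Fin.lt_def]; simp, ?_⟩
    unfold blk
    right; left
    exact ⟨rfl, Or.inl rfl⟩
  · refine ⟨by rw [Fin.lt_def]; omega, ?_⟩
    generalize (((⟨j, ha⟩ : Fin N).rev : Fin N) : ℕ) = r1 at hra ⊢
    generalize (((⟨j + 1, hb⟩ : Fin N).rev : Fin N) : ℕ) = r2 at hrb ⊢
    unfold blk
    omega

theorem sh_PL_le_Xp {j : ℕ} (hj : 2 * j + 2 = N) :
    Sh N F φ (PL (⟨j, by omega⟩ : Fin N)) ⊆ (Xp N F φ j : Set (SUm N F φ)) := by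
  apply sh_le_Xp (by omega)
  have ha : j < N := by omega
  have hra : (((⟨j, ha⟩ : Fin N).rev : Fin N) : ℕ) = j + 1 := by
    rw [Fin.val_rev]
    simp only
    omega
  rintro i k ⟨rfl, rfl⟩
  refine ⟨by rw [Fin.lt_def, hra]; simp, ?_⟩
  rw [hra]
  unfold blk
  right; left
  exact ⟨rfl, Or.inl rfl⟩

theorem sh_PO_le_Xp {j : ℕ} (hj : 2 * j + 3 = N) :
    Sh N F φ (PO (⟨j, by omega⟩ : Fin N) ⟨j + 1, by omega⟩)
      ⊆ (Xp N F φ j : Set (SUm N F φ)) := by
  apply sh_le_Xp (by omega)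
  have ha : j < N := by omega
  have hra : (((⟨j, ha⟩ : Fin N).rev : Fin N) : ℕ) = j + 2 := by
    rw [Fin.val_rev]
    simp only
    omega
  rintro i k (⟨rfl, rfl⟩ | ⟨rfl, rfl⟩ | ⟨rfl, rfl⟩)
  · refine ⟨by rw [Fin.lt_def]; simp, ?_⟩
    unfold blk
    right; left
    exact ⟨rfl, Or.inl rfl⟩
  · refine ⟨by rw [Fin.lt_def, hra]; simp, ?_⟩
    rw [hra]
    unfold blk
    right; left
    exact ⟨rfl, Or.inr (by omega)⟩
  · refine ⟨by rw [Fin.lt_def, hra]; simp, ?_⟩
    rw [hra]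
    unfold blk
    right; right; right; left
    exact ⟨rfl, rfl, hj⟩

/-- a subgroup containing the fundamental positive root subgroups and, for every node, a monomial
element inducing the reflection of the node -/
structure GoodH (H : Subgroup (SUm N F φ)) : Prop where
  hX : ∀ j, j < N / 2 → Xp N F φ j ≤ H
  hn : ∀ j, j < N / 2 → ∃ n ∈ H,
    IsMono ((gl n : GL (Fin N) F) : Matrix (Fin N) (Fin N) F) (rho N j)

variable {H : Subgroup (SUm N F φ)}

theorem GoodH.PS_I (h : GoodH H) : ∀ d a b : ℕ, ∀ (ha : a < N) (hb : b < N), b < N / 2 →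
    b = a + 1 + d → Sh N F φ (PS (⟨a, ha⟩ : Fin N) ⟨b, hb⟩) ⊆ H := by
  intro d
  induction d with
  | zero =>
    intro a b ha hb hbl hab
    have hab' : b = a + 1 := by omega
    subst hab'
    intro g hg
    exact h.hX a (by omega) (sh_PS_le_Xp (by omega) hg)
  | succ d ih =>
    intro a b ha hb hbl hab
    have hb1 : b - 1 < N := by omega
    have ih' := ih a (b - 1) ha hb1 (by omega) (by omega)
    have hj : (b - 1) + 1 < N / 2 := by omega
    obtain ⟨n, hnH, hn⟩ := h.hn (b - 1) (by omega)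
    apply good_step H hnH hn ih'
    intro i k hik
    apply PS_comp (rho N (b - 1)) (rho_sq (b - 1) (by omega)) (rho_rev (by omega))
    have e1 : rho N (b - 1) ⟨a, ha⟩ = ⟨a, ha⟩ :=
      rho_fix_short hj _ (by simp only; omega) (by simp only; omega) (by simp only; omega)
        (by simp only; omega)
    have e2 : rho N (b - 1) ⟨b - 1, hb1⟩ = ⟨b, hb⟩ :=
      rho_short_up hj _ _ rfl (by simp only; omega)
    rw [e1, e2]
    exact hik

theorem GoodH.PS_II (h : GoodH H) : ∀ d a c : ℕ, ∀ (ha : a < N) (hc : c < N), a < c →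
    c + d + 1 = N / 2 → Sh N F φ (PS (⟨a, ha⟩ : Fin N) (⟨c, hc⟩ : Fin N).rev) ⊆ H := by
  intro d
  induction d with
  | zero =>
    intro a c ha hc hac hcl
    have h1 := h.PS_I (c - a - 1) a c ha hc (by omega) (by omega)
    obtain ⟨n, hnH, hn⟩ := h.hn c (by omega)
    apply good_step H hnH hn h1
    intro i k hik
    apply PS_comp (rho N c) (rho_sq c (by omega)) (rho_rev (by omega))
    have hj : c + 1 = N / 2 := by omega
    have e1 : rho N c ⟨a, ha⟩ = ⟨a, ha⟩ :=
      rho_fix_mid hj _ (by simp only; omega) (by simp only; omega)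
    have e2 : rho N c ⟨c, hc⟩ = (⟨c, hc⟩ : Fin N).rev := rho_mid_swap hj _ rfl
    rw [e1, e2]
    exact hik
  | succ d ih =>
    intro a c ha hc hac hcl
    have hc1 : c + 1 < N := by omega
    have ih' := ih a (c + 1) ha hc1 (by omega) (by omega)
    have hj : c + 1 < N / 2 := by omega
    obtain ⟨n, hnH, hn⟩ := h.hn c (by omega)
    apply good_step H hnH hn ih'
    intro i k hik
    apply PS_comp (rho N c) (rho_sq c (by omega)) (rho_rev (by omega))
    have e1 : rho N c ⟨a, ha⟩ = ⟨a, ha⟩ :=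
      rho_fix_short hj _ (by simp only; omega) (by simp only; omega) (by simp only; omega)
        (by simp only; omega)
    have e2 : rho N c (⟨c + 1, hc1⟩ : Fin N).rev = (⟨c, hc⟩ : Fin N).rev := by
      rw [rho_rev (by omega), rho_short_down hj _ ⟨c, hc⟩ rfl rfl]
    rw [e1, e2]
    exact hik

theorem GoodH.PL_even (h : GoodH H) (hN : 2 * (N / 2) = N) : ∀ d a : ℕ, ∀ (ha : a < N),
    a + d + 1 = N / 2 → Sh N F φ (PL (⟨a, ha⟩ : Fin N)) ⊆ H := by
  intro d
  induction d with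
  | zero =>
    intro a ha hal
    intro g hg
    exact h.hX a (by omega) (sh_PL_le_Xp (by omega) hg)
  | succ d ih =>
    intro a ha hal
    have ha1 : a + 1 < N := by omega
    have ih' := ih (a + 1) ha1 (by omega)
    have hj : a + 1 < N / 2 := by omega
    obtain ⟨n, hnH, hn⟩ := h.hn a (by omega)
    apply good_step H hnH hn ih'
    intro i k hik
    apply PL_comp (rho N a) (rho_sq a (by omega)) (rho_rev (by omega))
    have e2 : rho N a ⟨a + 1, ha1⟩ = ⟨a, ha⟩ := rho_short_down hj _ _ rfl rfl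
    rw [e2]
    exact hik

theorem GoodH.PO_odd (h : GoodH H) (hN : 2 * (N / 2) + 1 = N) (hm : N / 2 < N) :
    ∀ d a : ℕ, ∀ (ha : a < N), a + d + 1 = N / 2 →
      Sh N F φ (PO (⟨a, ha⟩ : Fin N) ⟨N / 2, hm⟩) ⊆ H := by
  intro d
  induction d with
  | zero =>
    intro a ha hal
    intro g hg
    have e : (⟨N / 2, hm⟩ : Fin N) = ⟨a + 1, by omega⟩ := Fin.ext (by simp only; omega)
    rw [e] at hg
    exact h.hX a (by omega) (sh_PO_le_Xp (by omega) hg)
  | succ d ih =>
    intro a ha hal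
    have ha1 : a + 1 < N := by omega
    have ih' := ih (a + 1) ha1 (by omega)
    have hj : a + 1 < N / 2 := by omega
    obtain ⟨n, hnH, hn⟩ := h.hn a (by omega)
    apply good_step H hnH hn ih'
    intro i k hik
    apply PO_comp (rho N a) (rho_sq a (by omega)) (rho_rev (by omega))
    have e1 : rho N a ⟨N / 2, hm⟩ = ⟨N / 2, hm⟩ :=
      rho_fix_short hj _ (by simp only; omega) (by simp only; omega) (by simp only; omega)
        (by simp only; omega)
    have e2 : rho N a ⟨a + 1, ha1⟩ = ⟨a, ha⟩ := rho_short_down hj _ _ rfl rfl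
    rw [e1, e2]
    exact hik

/-- all positive short root subgroups lie in `H` -/
theorem GoodH.PS_all (h : GoodH H) (a b : Fin N) (hab : a < b) (hab' : a < b.rev)
    (hb : b ≠ b.rev) : Sh N F φ (PS a b) ⊆ H := by
  have hab1 : (a : ℕ) < b := hab
  have hab2 : (a : ℕ) < (b.rev : Fin N) := hab'
  have hbr : ((b.rev : Fin N) : ℕ) = N - (b + 1) := Fin.val_rev b
  have hb2 := b.2
  have hbne : (b : ℕ) ≠ N - (b + 1) := fun e => hb (Fin.ext (by rw [hbr]; exact e))
  by_cases hbl : (b : ℕ) < N / 2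
  · exact h.PS_I ((b : ℕ) - a - 1) a b a.2 b.2 hbl (by omega)
  · have h1 := h.PS_II (N / 2 - 1 - (b.rev : Fin N)) a (b.rev : Fin N) a.2 (b.rev).2 hab2
      (by omega)
    have e : (⟨((b.rev : Fin N) : ℕ), (b.rev).2⟩ : Fin N).rev = b := by
      rw [Fin.eta, Fin.rev_rev]
    rw [e] at h1
    exact h1

/-- all positive roots subgroups of the last node type in odd dimension lie in `H` -/
theorem GoodH.PO_all (h : GoodH H) (a m : Fin N) (ham : a < m) (hm : m.rev = m) :
    Sh N F φ (PO a m) ⊆ H := by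
  have ham1 : (a : ℕ) < m := ham
  have hmr : ((m.rev : Fin N) : ℕ) = N - (m + 1) := Fin.val_rev m
  have hm2 := m.2
  have hmv : N - ((m : ℕ) + 1) = m := by rw [← hmr, hm]
  have hml : (m : ℕ) = N / 2 := by omega
  have h1 := h.PO_odd (by omega) (by omega) (N / 2 - 1 - a) a a.2 (by omega)
  have e : (⟨N / 2, by omega⟩ : Fin N) = m := Fin.ext hml.symm
  rw [e] at h1
  exact h1

/-- all positive long root subgroups lie in `H` -/
theorem GoodH.PL_all (h : GoodH H) (a : Fin N) (ha : a < a.rev) : Sh N F φ (PL a) ⊆ H := by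
  have ha1 : (a : ℕ) < (a.rev : Fin N) := ha
  have har : ((a.rev : Fin N) : ℕ) = N - (a + 1) := Fin.val_rev a
  have ha2 := a.2
  rcases Nat.even_or_odd' N with ⟨l, hl | hl⟩
  · exact h.PL_even (by omega) (N / 2 - 1 - a) a a.2 (by omega)
  · have hmN : N / 2 < N := by omega
    have hmr : (⟨N / 2, hmN⟩ : Fin N).rev = ⟨N / 2, hmN⟩ := by
      apply Fin.ext
      rw [Fin.val_rev]
      simp only
      omega
    exact (sh_mono (PL_le_PO a ⟨N / 2, hmN⟩)).trans
      (h.PO_all a ⟨N / 2, hmN⟩ (by rw [Fin.lt_def]; simp only; omega) hmr)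

end good

end Cfsg.Agent.Lib.Helper5.AutSU
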