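import Cfsg.Agent.Lib.Helper5.AutSU.Gen2
import Mathlib

/-!
# The special unitary group: the upper unitriangular subgroup is generated by the positive root
subgroups (helper5)

Clearing the entries above the diagonal row by row, by right multiplication with root elements.
-/

set_option autoImplicit false

namespace Cfsg.Agent.Lib.Helper5.AutSU

open Matrix Cfsg Cfsg.Agent.Lib.Helper5.GLBN Cfsg.Agent.Lib.Helper8.SpBN
open Cfsg.Agent.Lib.Helper8.Tw Cfsg.Agent.PSUT
open scoped MatrixGroups

section entries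

variable {N : ℕ} {F : Type*} [Field F]

/-- right multiplication by a transvection adds a multiple of a column -/
theorem mul_tv_apply (M : Matrix (Fin N) (Fin N) F) (a b : Fin N) (hab : a ≠ b) (c : F)
    (i k : Fin N) :
    (M * ((tv a b hab c : GL (Fin N) F) : Matrix (Fin N) (Fin N) F)) i k
      = M i k + if k = b then M i a * c else 0 := by
  rw [tv_coe]
  unfold transvection
  rw [Matrix.mul_add, Matrix.mul_one, Matrix.add_apply]
  by_cases h : k = b
  · subst h
    rw [if_pos rfl, Matrix.mul_single_apply_same]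
  · rw [if_neg h, Matrix.mul_single_apply_of_ne (hbj := h)]

theorem mul_xS_apply (M : Matrix (Fin N) (Fin N) F) (φ : F →+* F) (a b : Fin N) (hab : a ≠ b)
    (h3 : b ≠ b.rev) (c : F) (i k : Fin N) :
    (M * ((xS φ a b hab c : GL (Fin N) F) : Matrix (Fin N) (Fin N) F)) i k
      = M i k + (if k = b then M i a * c else 0)
        + (if k = a.rev then M i b.rev * -(φ c) else 0) := by
  unfold xS
  rw [Units.val_mul, ← Matrix.mul_assoc]
  simp only [mul_tv_apply]
  rw [if_neg (show ¬ b.rev = b from fun e => h3 e.symm), add_zero]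

theorem mul_xO_apply (M : Matrix (Fin N) (Fin N) F) (φ : F →+* F) (a m : Fin N) (ham : a ≠ m)
    (hma : m ≠ a.rev) (ha : a ≠ a.rev) (c d : F) (i k : Fin N) :
    (M * ((xO φ a m ham hma ha c d : GL (Fin N) F) : Matrix (Fin N) (Fin N) F)) i k
      = M i k + (if k = m then M i a * c else 0)
        + (if k = a.rev then M i m * -(φ c) + M i a * d else 0) := by
  unfold xO
  rw [Units.val_mul, Units.val_mul, ← Matrix.mul_assoc, ← Matrix.mul_assoc]
  simp only [mul_tv_apply]
  have hma' : a.rev ≠ m := hma.symm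
  by_cases h1 : k = a.rev
  · subst h1
    simp [ha, ham, hma']
    ring
  · by_cases h2 : k = m
    · subst h2
      simp [h1, ha, ham]
    · simp [h1, h2]

variable {φ : F →+* F}

/-- the unitarity of a matrix in terms of its rows -/
theorem row_unitary {g : GL (Fin N) F} (hg : g ∈ UH N F φ) (x y : Fin N) :
    ∑ i, (g : Matrix (Fin N) (Fin N) F) x i * φ ((g : Matrix (Fin N) (Fin N) F) y i.rev)
      = if x = y.rev then 1 else 0 := by
  have h1 := (mem_UH_iff (φ := φ)).1 (inv_mem hg)
  have h2 : ((g * g⁻¹ : GL (Fin N) F) : Matrix (Fin N) (Fin N) F) x y.rev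
      = if x = y.rev then 1 else 0 := by
    rw [mul_inv_cancel, Units.val_one, Matrix.one_apply]
  rw [Units.val_mul, Matrix.mul_apply] at h2
  rw [← h2]
  apply Finset.sum_congr rfl
  intro i _
  rw [h1 i y.rev, inv_inv, Fin.rev_rev]

/-- the entries above the diagonal before the position of code `n` vanish -/
def Clr (n : ℕ) (M : Matrix (Fin N) (Fin N) F) : Prop :=
  ∀ i k : Fin N, i < k → (i : ℕ) * N + k < n → M i k = 0

theorem clr_use {a b : Fin N} {M : Matrix (Fin N) (Fin N) F} (h : Clr ((a : ℕ) * N + b) M)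
    (i k : Fin N) (hik : i < k) (hlex : i < a ∨ (i = a ∧ k < b)) : M i k = 0 := by
  apply h i k hik
  rcases hlex with h1 | ⟨rfl, h2⟩
  · have h1' : (i : ℕ) + 1 ≤ a := h1
    have hk := k.2
    calc (i : ℕ) * N + k < (i : ℕ) * N + N := by omega
      _ = ((i : ℕ) + 1) * N := by ring
      _ ≤ (a : ℕ) * N := Nat.mul_le_mul_right N h1'
      _ ≤ (a : ℕ) * N + b := Nat.le_add_right _ _
  · have h2' : (k : ℕ) < b := h2
    omega

theorem clr_succ {a b : Fin N} {M : Matrix (Fin N) (Fin N) F}
    (h : ∀ i k : Fin N, i < k → (i < a ∨ (i = a ∧ k ≤ b)) → M i k = 0) :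
    Clr ((a : ℕ) * N + b + 1) M := by
  intro i k hik hcode
  apply h i k hik
  rcases lt_trichotomy i a with h1 | h1 | h1
  · exact Or.inl h1
  · right
    refine ⟨h1, ?_⟩
    subst h1
    rw [Fin.le_def]
    omega
  · exfalso
    have h1' : (a : ℕ) + 1 ≤ i := h1
    have hb := b.2
    have h2 : ((a : ℕ) + 1) * N ≤ (i : ℕ) * N := Nat.mul_le_mul_right N h1'
    have e : ((a : ℕ) + 1) * N = (a : ℕ) * N + N := by ring
    omega

end entries

section grp

variable {N : ℕ} {F : Type*} [Field F] [Fintype F] {φ : F →+* F} {q : ℕ}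

theorem xS_mem_Sh (hφ : ∀ x, φ (φ x) = x) (a b : Fin N) (hab : a ≠ b) (h1 : a ≠ b.rev)
    (h2 : a ≠ a.rev) (h3 : b ≠ b.rev) (c : F) :
    mk1 (xS φ a b hab c) (xS_mem_UH hφ a b hab h1 h2 h3 c) (det_xS φ a b hab c)
      ∈ Sh N F φ (PS a b) := by
  constructor
  · intro i
    rw [gl_mk1, xS_apply φ a b hab h3, if_pos rfl, if_neg, if_neg, add_zero, add_zero]
    · rintro ⟨e1, e2⟩
      exact hab (Fin.rev_injective (e2.trans e1.symm))
    · rintro ⟨e1, e2⟩
      exact hab (e1.trans e2.symm)
  · intro i k hik hP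
    rw [gl_mk1, xS_apply φ a b hab h3, if_neg hik, if_neg, if_neg, add_zero, add_zero]
    · rintro ⟨e1, e2⟩
      exact hP (Or.inr ⟨e1.symm, e2.symm⟩)
    · rintro ⟨e1, e2⟩
      exact hP (Or.inl ⟨e1.symm, e2.symm⟩)

theorem xL_mem_Sh (a : Fin N) (ha : a ≠ a.rev) (c : F) (hc : c + φ c = 0) :
    mk1 (xL a ha c) (xL_mem_UH a ha c hc) (det_xL a ha c) ∈ Sh N F φ (PL a) := by
  constructor
  · intro i
    rw [gl_mk1]
    unfold xL
    rw [tv_apply, if_pos rfl, if_neg, add_zero]
    rintro ⟨e1, e2⟩
    exact ha (e1.trans e2.symm)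
  · intro i k hik hP
    rw [gl_mk1]
    unfold xL
    rw [tv_apply, if_neg hik, if_neg, add_zero]
    rintro ⟨e1, e2⟩
    exact hP ⟨e1.symm, e2.symm⟩

theorem xO_mem_Sh (hφ : ∀ x, φ (φ x) = x) (a m : Fin N) (ham : a ≠ m) (hma : m ≠ a.rev)
    (ha : a ≠ a.rev) (hm : m.rev = m) (c d : F) (hd : d + φ d + c * φ c = 0) :
    mk1 (xO φ a m ham hma ha c d) (xO_mem_UH φ hφ a m ham hma ha hm c d hd)
      (det_xO φ a m ham hma ha c d) ∈ Sh N F φ (PO a m) := by
  constructor
  · intro i
    rw [gl_mk1, xO_apply, if_pos rfl, if_neg, if_neg, if_neg, add_zero, add_zero, add_zero]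
    · rintro ⟨e1, e2⟩
      exact hma (e1.trans e2.symm)
    · rintro ⟨e1, e2⟩
      exact ham (e1.trans e2.symm)
    · rintro ⟨e1, e2⟩
      exact ha (e1.trans e2.symm)
  · intro i k hik hP
    rw [gl_mk1, xO_apply, if_neg hik, if_neg, if_neg, if_neg, add_zero, add_zero, add_zero]
    · rintro ⟨e1, e2⟩
      exact hP (Or.inr (Or.inl ⟨e1.symm, e2.symm⟩))
    · rintro ⟨e1, e2⟩
      exact hP (Or.inl ⟨e1.symm, e2.symm⟩)
    · rintro ⟨e1, e2⟩
      exact hP (Or.inr (Or.inr ⟨e1.symm, e2.symm⟩))

/-- the step of the row clearing: the entry in the position `(a, b)` is removed by right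
multiplication with a root element in `H` -/
theorem Ctx.clear_step (C : Ctx N F φ q) (H : Subgroup (SUm N F φ))
    (h1 : ∀ a b : Fin N, a < b → a < b.rev → b ≠ b.rev → Sh N F φ (PS a b) ⊆ H)
    (h2 : ∀ a : Fin N, a < a.rev → Sh N F φ (PL a) ⊆ H)
    (h3 : ∀ a m : Fin N, a < m → m.rev = m → Sh N F φ (PO a m) ⊆ H)
    {g : SUm N F φ} (hg : g ∈ UU N F φ) (a b : Fin N) (hab : a < b)
    (hclr : ∀ i k : Fin N, i < k → (i < a ∨ (i = a ∧ k < b)) →
      ((gl g : GL (Fin N) F) : Matrix (Fin N) (Fin N) F) i k = 0) :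
    ∃ ξ ∈ H, ξ ∈ UU N F φ ∧ ∀ i k : Fin N, i < k → (i < a ∨ (i = a ∧ k ≤ b)) →
      ((gl (g * ξ) : GL (Fin N) F) : Matrix (Fin N) (Fin N) F) i k = 0 := by
  obtain ⟨hlow, hdiag⟩ := mem_UU.1 hg
  have hrow : ∀ i : Fin N, i < a → ∀ j, j ≠ i →
      ((gl g : GL (Fin N) F) : Matrix (Fin N) (Fin N) F) i j = 0 := by
    intro i hia j hji
    rcases lt_or_gt_of_ne hji with h | h
    · exact hlow i j h
    · exact hclr i j h (Or.inl hia)
  rcases lt_trichotomy b.rev a with hc | hc | hc
  · -- the entry vanishes by unitarity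
    refine ⟨1, one_mem H, one_mem _, ?_⟩
    have hx : ((gl g : GL (Fin N) F) : Matrix (Fin N) (Fin N) F) a b = 0 := by
      have hu := row_unitary (gl_mem_UH g) a b.rev
      rw [Finset.sum_eq_single b] at hu
      · rw [hdiag, map_one, mul_one, Fin.rev_rev, if_neg (ne_of_lt hab)] at hu
        exact hu
      · intro i _ hib
        rw [hrow b.rev hc i.rev (fun e => hib (Fin.rev_injective e)), map_zero, mul_zero]
      · intro h
        exact absurd (Finset.mem_univ _) h
    intro i k hik hlex
    rw [mul_one]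
    rcases hlex with h | ⟨rfl, h⟩
    · exact hclr i k hik (Or.inl h)
    · rcases lt_or_eq_of_le h with h' | rfl
      · exact hclr _ k hik (Or.inr ⟨rfl, h'⟩)
      · exact hx
  · -- the position of a long root
    have hb : b = a.rev := by rw [← hc, Fin.rev_rev]
    subst hb
    have ha : a ≠ a.rev := ne_of_lt hab
    obtain ⟨x, hxdef⟩ : ∃ x : F, ((gl g : GL (Fin N) F) : Matrix (Fin N) (Fin N) F) a a.rev = x :=
      ⟨_, rfl⟩
    have hx : x + φ x = 0 := by
      have hu := row_unitary (gl_mem_UH g) a a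
      rw [if_neg ha, Finset.sum_eq_add a a.rev ha] at hu
      · rw [hdiag, one_mul, Fin.rev_rev, hdiag, map_one, mul_one, hxdef] at hu
        rw [add_comm]
        exact hu
      · rintro i _ ⟨hia, hia'⟩
        rcases lt_trichotomy i a with h | h | h
        · rw [hlow a i h, zero_mul]
        · exact absurd h hia
        · rcases lt_trichotomy i a.rev with h' | h' | h'
          · rw [hclr a i h (Or.inr ⟨rfl, h'⟩), zero_mul]
          · exact absurd h' hia'
          · have h4 : i.rev < a := by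
              have := Fin.rev_lt_rev.2 h'
              rwa [Fin.rev_rev] at this
            rw [hlow a i.rev h4, map_zero, mul_zero]
      · intro h
        exact absurd (Finset.mem_univ _) h
      · intro h
        exact absurd (Finset.mem_univ _) h
    have hx' : -x + φ (-x) = 0 := by rw [map_neg, ← neg_add, hx, neg_zero]
    refine ⟨mk1 (xL a ha (-x)) (xL_mem_UH a ha (-x) hx') (det_xL a ha (-x)),
      h2 a hab (xL_mem_Sh a ha (-x) hx'), ?_, ?_⟩
    · rw [mem_UU, gl_mk1]
      exact tv_isUpU hab (-x)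
    · intro i k hik hlex
      rw [gl_mul, Units.val_mul, gl_mk1]
      unfold xL
      rw [mul_tv_apply]
      rcases hlex with h | ⟨rfl, h⟩
      · rw [hclr i k hik (Or.inl h), hrow i h a (ne_of_gt h), zero_mul]
        simp
      · rcases lt_or_eq_of_le h with h' | rfl
        · rw [hclr _ k hik (Or.inr ⟨rfl, h'⟩), if_neg (ne_of_lt h'), add_zero]
        · rw [if_pos rfl, hdiag, one_mul, hxdef]
          exact add_neg_cancel x
  · -- `a < b.rev`
    have hba : b < a.rev := by
      have := Fin.rev_lt_rev.2 hc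
      rwa [Fin.rev_rev] at this
    have hne : a ≠ b := ne_of_lt hab
    have hne1 : a ≠ b.rev := ne_of_lt hc
    have hne2 : a ≠ a.rev := ne_of_lt (lt_trans hab hba)
    have hne3 : b ≠ a.rev := ne_of_lt hba
    obtain ⟨x, hxdef⟩ : ∃ x : F, ((gl g : GL (Fin N) F) : Matrix (Fin N) (Fin N) F) a b = x :=
      ⟨_, rfl⟩
    by_cases hm : b = b.rev
    · -- the middle position in odd dimension
      have hmr : b.rev = b := hm.symm
      obtain ⟨d, hd⟩ := C.exists_tr (-x * φ (-x)) (by rw [map_mul, C.inv, mul_comm])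
      refine ⟨mk1 (xO φ a b hne hne3 hne2 (-x) d)
        (xO_mem_UH φ C.inv a b hne hne3 hne2 hmr (-x) d hd) (det_xO φ a b hne hne3 hne2 (-x) d),
        h3 a b hab hmr (xO_mem_Sh C.inv a b hne hne3 hne2 hmr (-x) d hd), ?_, ?_⟩
      · rw [mem_UU, gl_mk1]
        exact xO_isUpU φ hab hba (-x) d
      · intro i k hik hlex
        rw [gl_mul, Units.val_mul, gl_mk1, mul_xO_apply]
        rcases hlex with h | ⟨rfl, h⟩
        · rw [hclr i k hik (Or.inl h), hrow i h a (ne_of_gt h),
            hrow i h b (ne_of_gt (lt_trans h hab))]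
          simp
        · rcases lt_or_eq_of_le h with h' | rfl
          · rw [hclr _ k hik (Or.inr ⟨rfl, h'⟩), if_neg (ne_of_lt h'),
              if_neg (ne_of_lt (lt_trans h' hba)), add_zero, add_zero]
          · rw [if_pos rfl, if_neg hne3, hdiag, one_mul, hxdef, add_zero]
            exact add_neg_cancel x
    · -- the position of a short root
      refine ⟨mk1 (xS φ a b hne (-x)) (xS_mem_UH C.inv a b hne hne1 hne2 hm (-x))
        (det_xS φ a b hne (-x)),
        h1 a b hab hc hm (xS_mem_Sh C.inv a b hne hne1 hne2 hm (-x)), ?_, ?_⟩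
      · rw [mem_UU, gl_mk1]
        exact xS_isUpU hab (-x)
      · intro i k hik hlex
        rw [gl_mul, Units.val_mul, gl_mk1, mul_xS_apply _ φ a b hne hm]
        rcases hlex with h | ⟨rfl, h⟩
        · rw [hclr i k hik (Or.inl h), hrow i h a (ne_of_gt h),
            hrow i h b.rev (ne_of_gt (lt_trans h hc))]
          simp
        · rcases lt_or_eq_of_le h with h' | rfl
          · rw [hclr _ k hik (Or.inr ⟨rfl, h'⟩), if_neg (ne_of_lt h'),
              if_neg (ne_of_lt (lt_trans h' hba)), add_zero, add_zero]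
          · rw [if_pos rfl, if_neg hne3, hdiag, one_mul, hxdef, add_zero]
            exact add_neg_cancel x

/-- the upper unitriangular subgroup lies in every subgroup which contains the positive root
subgroups -/
theorem Ctx.UU_le (C : Ctx N F φ q) (H : Subgroup (SUm N F φ))
    (h1 : ∀ a b : Fin N, a < b → a < b.rev → b ≠ b.rev → Sh N F φ (PS a b) ⊆ H)
    (h2 : ∀ a : Fin N, a < a.rev → Sh N F φ (PL a) ⊆ H)
    (h3 : ∀ a m : Fin N, a < m → m.rev = m → Sh N F φ (PO a m) ⊆ H) : UU N F φ ≤ H := by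
  have key : ∀ m n : ℕ, n + m = N * N → ∀ g ∈ UU N F φ,
      Clr n ((gl g : GL (Fin N) F) : Matrix (Fin N) (Fin N) F) → g ∈ H := by
    intro m
    induction m with
    | zero =>
      intro n hn g hg hclr
      have e : g = 1 := by
        apply gl_injective
        apply Units.ext
        rw [gl_one, Units.val_one]
        ext i k
        rcases lt_trichotomy i k with h | h | h
        · rw [Matrix.one_apply_ne (ne_of_lt h)]
          apply hclr i k h
          have hi := i.2
          have hk := k.2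
          have h5 : ((i : ℕ) + 1) * N ≤ N * N := Nat.mul_le_mul_right N hi
          have e5 : ((i : ℕ) + 1) * N = (i : ℕ) * N + N := by ring
          omega
        · rw [h, (mem_UU.1 hg).2, Matrix.one_apply_eq]
        · rw [(mem_UU.1 hg).1 i k h, Matrix.one_apply_ne (ne_of_gt h)]
      rw [e]
      exact one_mem H
    | succ m ih =>
      intro n hn g hg hclr
      have hnlt : n < N * N := by omega
      have hN : 0 < N := by
        rcases Nat.eq_zero_or_pos N with h | h
        · subst h
          simp at hnlt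
        · exact h
      have ha : n / N < N := Nat.div_lt_of_lt_mul hnlt
      have hb : n % N < N := Nat.mod_lt _ hN
      have hcode : (n / N) * N + n % N = n := Nat.div_add_mod' n N
      have hclr' : Clr (((⟨n / N, ha⟩ : Fin N) : ℕ) * N + ((⟨n % N, hb⟩ : Fin N) : ℕ))
          ((gl g : GL (Fin N) F) : Matrix (Fin N) (Fin N) F) := by
        show Clr ((n / N) * N + n % N) _
        rw [hcode]
        exact hclr
      have hsucc : ∀ g' : SUm N F φ, g' ∈ UU N F φ →
          (∀ i k : Fin N, i < k → (i < (⟨n / N, ha⟩ : Fin N) ∨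
            (i = (⟨n / N, ha⟩ : Fin N) ∧ k ≤ (⟨n % N, hb⟩ : Fin N))) →
            ((gl g' : GL (Fin N) F) : Matrix (Fin N) (Fin N) F) i k = 0) → g' ∈ H := by
        intro g' hg' h
        apply ih (n + 1) (by omega) g' hg'
        have := clr_succ (a := (⟨n / N, ha⟩ : Fin N)) (b := (⟨n % N, hb⟩ : Fin N)) h
        have e : ((⟨n / N, ha⟩ : Fin N) : ℕ) * N + ((⟨n % N, hb⟩ : Fin N) : ℕ) + 1 = n + 1 := by
          show (n / N) * N + n % N + 1 = n + 1
          rw [hcode]
        rwa [e] at this
      by_cases hab : (⟨n / N, ha⟩ : Fin N) < ⟨n % N, hb⟩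
      · obtain ⟨ξ, hξH, hξU, hξ⟩ := C.clear_step H h1 h2 h3 hg _ _ hab
          (fun i k hik hlex => clr_use hclr' i k hik hlex)
        have h5 := hsucc (g * ξ) (mul_mem hg hξU) hξ
        have e : g = g * ξ * ξ⁻¹ := by group
        rw [e]
        exact mul_mem h5 (inv_mem hξH)
      · apply hsucc g hg
        intro i k hik hlex
        rcases hlex with hl | ⟨rfl, hl⟩
        · exact clr_use hclr' i k hik (Or.inl hl)
        · rcases lt_or_eq_of_le hl with hl' | rfl
          · exact clr_use hclr' _ k hik (Or.inr ⟨rfl, hl'⟩)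
          · exact absurd hik hab
  intro g hg
  exact key (N * N) 0 (by omega) g hg (fun i k _ h => absurd h (Nat.not_lt_zero _))

end grp

end Cfsg.Agent.Lib.Helper5.AutSU
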