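import Cfsg.Agent.Lib.Helper5.AutSU.Gen3
import Mathlib

/-!
# The special unitary group is generated by its fundamental root subgroups (helper5)
-/

set_option autoImplicit false

namespace Cfsg.Agent.Lib.Helper5.AutSU

open Matrix Cfsg Cfsg.Agent.Lib.Helper5.GLBN Cfsg.Agent.Lib.Helper8.SpBN
open Cfsg.Agent.Lib.Helper8.Tw Cfsg.Agent.PSUT
open scoped MatrixGroups

section

variable {N : ℕ} {F : Type*} [Field F] [Fintype F] {φ : F →+* F} {q : ℕ}

/-- the subgroup generated by the fundamental root subgroups -/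
def HH (N : ℕ) (F : Type*) [Field F] [Finite F] (φ : F →+* F) : Subgroup (SUm N F φ) :=
  Subgroup.closure ((⋃ j ∈ Finset.range (N / 2), (Xp N F φ j : Set (SUm N F φ)))
    ∪ (⋃ j ∈ Finset.range (N / 2), (Xm N F φ j : Set (SUm N F φ))))

theorem Xp_le_HH {j : ℕ} (hj : j < N / 2) : Xp N F φ j ≤ HH N F φ := by
  intro x hx
  apply Subgroup.subset_closure
  left
  exact Set.mem_biUnion (Finset.mem_range.2 hj) hx

theorem Xm_le_HH {j : ℕ} (hj : j < N / 2) : Xm N F φ j ≤ HH N F φ := by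
  intro x hx
  apply Subgroup.subset_closure
  right
  exact Set.mem_biUnion (Finset.mem_range.2 hj) hx

theorem LL_le_HH {j : ℕ} (hj : j < N / 2) : LL N F φ j ≤ HH N F φ := by
  unfold LL
  rw [Subgroup.closure_le]
  rintro x (hx | hx)
  · exact Xp_le_HH hj hx
  · exact Xm_le_HH hj hx

theorem Ctx.goodH (C : Ctx N F φ q) : GoodH (HH N F φ) where
  hX := fun _ hj => Xp_le_HH hj
  hn := fun j hj => by
    obtain ⟨n, hn, hm⟩ := C.exists_mono hj
    exact ⟨n, LL_le_HH hj hn, hm⟩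

theorem Ctx.UU_le_HH (C : Ctx N F φ q) : UU N F φ ≤ HH N F φ :=
  C.UU_le (HH N F φ) C.goodH.PS_all C.goodH.PL_all C.goodH.PO_all

/-! ### the torus normalizes the root subgroups -/

theorem isMono_of_mem_TT {t : SUm N F φ} (ht : t ∈ TT N F φ) :
    IsMono ((gl t : GL (Fin N) F) : Matrix (Fin N) (Fin N) F) 1 := by
  intro i k hik
  rw [Equiv.Perm.one_apply] at hik
  exact mem_TT.1 ht i k hik

theorem mem_TT_of_isMono {t : SUm N F φ}
    (ht : IsMono ((gl t : GL (Fin N) F) : Matrix (Fin N) (Fin N) F) 1) : t ∈ TT N F φ := by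
  rw [mem_TT]
  intro a b hab
  apply ht
  rwa [Equiv.Perm.one_apply]

/-- the positive root subgroup of a node as a shape -/
theorem Xp_eq_Sh {j : ℕ} (hj : 2 * j + 2 ≤ N) :
    (Xp N F φ j : Set (SUm N F φ)) = Sh N F φ (fun a b => a < b ∧ blk N j a b) := by
  apply Set.Subset.antisymm
  · intro g hg
    obtain ⟨hU, hB⟩ := (mem_Xp hj).1 hg
    refine ⟨hU.2, ?_⟩
    intro a b hab hP
    rcases lt_or_gt_of_ne hab with h | h
    · exact hB a b h (fun hb => hP ⟨h, hb⟩)
    · exact hU.1 a b h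
  · exact sh_le_Xp hj (fun _ _ h => h)

/-- the negative root subgroup of a node as a shape -/
theorem Xm_eq_Sh {j : ℕ} (hj : 2 * j + 2 ≤ N) :
    (Xm N F φ j : Set (SUm N F φ)) = Sh N F φ (fun a b => b < a ∧ blk N j a b) := by
  apply Set.Subset.antisymm
  · intro g hg
    obtain ⟨hU, hB⟩ := (mem_Xm hj).1 hg
    refine ⟨hU.2, ?_⟩
    intro a b hab hP
    rcases lt_or_gt_of_ne hab with h | h
    · exact hU.1 a b h
    · exact hB a b h (fun hb => hP ⟨h, hb⟩)
  · intro g hg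
    rw [SetLike.mem_coe, mem_Xm hj]
    refine ⟨⟨fun a b hab => hg.2 a b (ne_of_lt hab)
        (fun hp => absurd hp.1 (not_lt.2 hab.le)), hg.1⟩,
      fun a b hba hn => hg.2 a b (ne_of_gt hba) (fun hp => hn hp.2)⟩

theorem sh_conj_TT {P : Fin N → Fin N → Prop} {t g : SUm N F φ} (ht : t ∈ TT N F φ)
    (hg : g ∈ Sh N F φ P) : t * g * t⁻¹ ∈ Sh N F φ P := by
  have h1 : IsMono ((gl t⁻¹ : GL (Fin N) F) : Matrix (Fin N) (Fin N) F) 1 :=
    isMono_of_mem_TT (inv_mem ht)
  have h2 := sh_conj h1 hg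
  rw [inv_inv] at h2
  exact h2

/-- the torus normalizes the subgroup generated by the fundamental root subgroups -/
theorem conj_TT_mem_HH {t : SUm N F φ} (ht : t ∈ TT N F φ) {h : SUm N F φ}
    (hh : h ∈ HH N F φ) : t * h * t⁻¹ ∈ HH N F φ := by
  unfold HH at hh
  induction hh using Subgroup.closure_induction with
  | mem x hx =>
    rcases hx with hx | hx
    · obtain ⟨j, hj, hxj⟩ := Set.mem_iUnion₂.1 hx
      have hj' : j < N / 2 := Finset.mem_range.1 hj
      have hj2 : 2 * j + 2 ≤ N := by omega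
      apply Xp_le_HH hj'
      rw [← SetLike.mem_coe, Xp_eq_Sh hj2]
      rw [Xp_eq_Sh hj2] at hxj
      exact sh_conj_TT ht hxj
    · obtain ⟨j, hj, hxj⟩ := Set.mem_iUnion₂.1 hx
      have hj' : j < N / 2 := Finset.mem_range.1 hj
      have hj2 : 2 * j + 2 ≤ N := by omega
      apply Xm_le_HH hj'
      rw [← SetLike.mem_coe, Xm_eq_Sh hj2]
      rw [Xm_eq_Sh hj2] at hxj
      exact sh_conj_TT ht hxj
  | one =>
    rw [mul_one, mul_inv_cancel]
    exact one_mem _
  | mul x y _ _ hx hy =>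
    have e : t * (x * y) * t⁻¹ = (t * x * t⁻¹) * (t * y * t⁻¹) := by group
    rw [e]
    exact mul_mem hx hy
  | inv x _ hx =>
    have e : t * x⁻¹ * t⁻¹ = (t * x * t⁻¹)⁻¹ := by group
    rw [e]
    exact inv_mem hx

/-! ### `G = H T` -/

theorem Ctx.inf_le_TT (C : Ctx N F φ q) : C.P.B ⊓ C.P.N ≤ TT N F φ := by
  rintro t ⟨htB, htN⟩
  rw [C.P_B] at htB
  obtain ⟨σ, hσ⟩ := mem_monoN.1 (C.mem_P_N.1 htN)
  have hσ1 : σ = 1 := perm_eq_one_of_upper hσ (mem_upper.2 (mem_BB.1 htB))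
  rw [hσ1] at hσ
  exact mem_TT_of_isMono hσ

theorem Ctx.BB_le_sup (C : Ctx N F φ q) : BB N F φ ≤ HH N F φ ⊔ TT N F φ := by
  intro b hb
  rw [← C.P_B] at hb
  obtain ⟨t, ht, u, hu, rfl⟩ := C.exists_TU b hb
  exact mul_mem (Subgroup.mem_sup_right (C.inf_le_TT ht))
    (Subgroup.mem_sup_left (C.UU_le_HH hu))

theorem Ctx.sN_isMono (C : Ctx N F φ q) {j : ℕ} (hj : j < N / 2) :
    IsMono ((gl (C.sN j) : GL (Fin N) F) : Matrix (Fin N) (Fin N) F) (rho N j) := by
  intro a b hab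
  exact (C.sN_apply_eq_zero_iff hj a b).2 hab

theorem Ctx.sN_mem_sup (C : Ctx N F φ q) {j : ℕ} (hj : j < N / 2) :
    C.sN j ∈ HH N F φ ⊔ TT N F φ := by
  obtain ⟨n, hn, hm⟩ := C.goodH.hn j hj
  have hs := C.sN_isMono hj
  have hd : IsMono ((gl (n⁻¹ * C.sN j) : GL (Fin N) F) : Matrix (Fin N) (Fin N) F) 1 := by
    rw [gl_mul, gl_inv]
    have h1 := (IsMono.inv hm).mul hs
    rw [inv_mul_cancel] at h1
    rw [Units.val_mul]
    exact h1
  have e : C.sN j = n * (n⁻¹ * C.sN j) := by group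
  rw [e]
  exact mul_mem (Subgroup.mem_sup_left hn) (Subgroup.mem_sup_right (mem_TT_of_isMono hd))

theorem Ctx.N_le_sup (C : Ctx N F φ q) : C.P.N ≤ HH N F φ ⊔ TT N F φ := by
  rw [← C.P.closure_sup]
  apply sup_le
  · rw [Subgroup.closure_le, C.P_S]
    rintro s ⟨j, hj, rfl⟩
    exact C.sN_mem_sup hj
  · exact le_trans C.inf_le_TT le_sup_right

theorem Ctx.sup_TT_eq_top (C : Ctx N F φ q) : HH N F φ ⊔ TT N F φ = ⊤ := by
  rw [eq_top_iff, ← C.P.sup_eq_top]
  apply sup_le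
  · rw [C.P_B]
    exact C.BB_le_sup
  · exact C.N_le_sup

/-! ### `H` is normal with commutative quotient -/

theorem Ctx.HH_normal (C : Ctx N F φ q) : (HH N F φ).Normal := by
  rw [← Subgroup.normalizer_eq_top_iff, eq_top_iff, ← C.sup_TT_eq_top]
  apply sup_le
  · exact Subgroup.le_normalizer
  · intro t ht
    rw [Subgroup.mem_normalizer_iff]
    intro h
    constructor
    · intro hh
      exact conj_TT_mem_HH ht hh
    · intro hh
      have h1 := conj_TT_mem_HH (inv_mem ht) hh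
      have e : t⁻¹ * (t * h * t⁻¹) * t⁻¹⁻¹ = h := by group
      rwa [e] at h1

theorem TT_comm {a b : SUm N F φ} (ha : a ∈ TT N F φ) (hb : b ∈ TT N F φ) :
    a * b = b * a := by
  apply gl_injective
  rw [gl_mul, gl_mul]
  apply Units.ext
  rw [Units.val_mul, Units.val_mul]
  have hA := isMono_of_mem_TT ha
  have hB := isMono_of_mem_TT hb
  ext i k
  rw [hB.mul_apply, hA.mul_apply, Equiv.Perm.one_apply]
  by_cases hik : i = k
  · subst hik
    exact mul_comm _ _
  · rw [mem_TT.1 ha i k hik, mem_TT.1 hb i k hik, zero_mul, zero_mul]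

theorem TT_isMulCommutative : IsMulCommutative ↥(TT N F φ) :=
  ⟨⟨fun a b => Subtype.ext (TT_comm a.2 b.2)⟩⟩

theorem Ctx.commutator_le_HH (C : Ctx N F φ q) : commutator (SUm N F φ) ≤ HH N F φ := by
  have := C.HH_normal
  exact Subgroup.Normal.commutator_le_of_self_sup_commutative_eq_top C.sup_TT_eq_top
    TT_isMulCommutative

/-- if the special unitary group is perfect, it is generated by its fundamental root subgroups -/
theorem Ctx.HH_eq_top (C : Ctx N F φ q) (hperf : commutator (SUm N F φ) = ⊤) :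
    HH N F φ = ⊤ := by
  rw [eq_top_iff, ← hperf]
  exact C.commutator_le_HH

/-- **GEN**: a subgroup of the (perfect) special unitary group that contains all the
fundamental root subgroups is the whole group -/
theorem Ctx.gen (C : Ctx N F φ q) (hperf : commutator ↥(N1 N F φ) = ⊤)
    (H : Subgroup ↥(N1 N F φ))
    (hH : ∀ i, i < N / 2 → Xp N F φ i ≤ H ∧ Xm N F φ i ≤ H) : H = ⊤ := by
  rw [eq_top_iff, ← C.HH_eq_top hperf]
  unfold HH
  rw [Subgroup.closure_le]
  rintro x (hx | hx)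
  · obtain ⟨j, hj, hxj⟩ := Set.mem_iUnion₂.1 hx
    exact (hH j (Finset.mem_range.1 hj)).1 hxj
  · obtain ⟨j, hj, hxj⟩ := Set.mem_iUnion₂.1 hx
    exact (hH j (Finset.mem_range.1 hj)).2 hxj

end

end Cfsg.Agent.Lib.Helper5.AutSU
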