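import Cfsg.Agent.Lib.Helper5.AutSU.Gen4
import Cfsg.Agent.Lib.Helper7.AutPSU.Kernel
import Cfsg.Agent.Lib.Lead.PSUTransportE
import Mathlib

/-!
# The model special unitary group is perfect, hence generated by its fundamental root
subgroups (helper5)
-/

set_option autoImplicit false

namespace Cfsg.Agent.Lib.Helper5.AutSU

open Matrix Cfsg Cfsg.Agent.Lib.Helper5.GLBN Cfsg.Agent.Lib.Helper8.SpBN
open Cfsg.Agent.Lib.Helper8.Tw Cfsg.Agent.PSUT
open scoped MatrixGroups

/-- perfectness is invariant under isomorphism -/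
theorem commutator_eq_top_of_mulEquiv {G H : Type*} [Group G] [Group H] (e : G ≃* H)
    (h : commutator G = ⊤) : commutator H = ⊤ := by
  have h1 : Subgroup.map e.toMonoidHom (⊤ : Subgroup G) = ⊤ :=
    Subgroup.map_top_of_surjective _ e.surjective
  rw [commutator_def] at h ⊢
  rw [← h1, ← Subgroup.map_commutator, h]

section

variable {N : ℕ} {F : Type*} [Field F] [Fintype F] {φ : F →+* F} {q : ℕ}

/-- the model special unitary group is perfect -/
theorem Ctx.perfect (C : Ctx N F φ q) (hs : ¬ (N = 3 ∧ q = 2)) :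
    commutator ↥(N1 N F φ) = ⊤ := by
  have hσ : φ ≠ RingHom.id F := by
    obtain ⟨a, ha⟩ := C.exists_moved
    intro h
    apply ha
    rw [h, RingHom.id_apply]
  obtain ⟨A, hA⟩ := exists_baseChange N φ hσ C.inv
  exact commutator_eq_top_of_mulEquiv (suEquiv A hA C.hφ)
    (Cfsg.Agent.Lib.H7AutPSU.su_perfect C.hF C.hN hs)

/-- **GEN**: a subgroup of the model special unitary group that contains all the fundamental
root subgroups is the whole group -/
theorem Ctx.gen' (C : Ctx N F φ q) (hs : ¬ (N = 3 ∧ q = 2))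
    (H : Subgroup ↥(N1 N F φ))
    (hH : ∀ i, i < N / 2 → Xp N F φ i ≤ H ∧ Xm N F φ i ≤ H) : H = ⊤ :=
  C.gen (C.perfect hs) H hH

/-- the closure form of **GEN** -/
theorem Ctx.closure_roots_eq_top (C : Ctx N F φ q) (hs : ¬ (N = 3 ∧ q = 2)) :
    Subgroup.closure ((⋃ j ∈ Finset.range (N / 2), (Xp N F φ j : Set (SUm N F φ)))
      ∪ (⋃ j ∈ Finset.range (N / 2), (Xm N F φ j : Set (SUm N F φ)))) = ⊤ :=
  C.HH_eq_top (C.perfect hs)

end

end Cfsg.Agent.Lib.Helper5.AutSU
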