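import Cfsg.Agent.Lib.Helper5.AutSU.NormalForm
import Mathlib

/-!
# The special unitary group: the diagonal torus in the normal form (helper5)

The automorphism of the normal form also fixes the image of the diagonal torus
`T = B ∩ n₀ B n₀⁻¹`.
-/

set_option autoImplicit false

namespace Cfsg.Agent.Lib.Helper5.AutSU

open Matrix Cfsg Cfsg.Agent.Lib.Helper5.GLBN Cfsg.Agent.Lib.Helper8.SpBN
open Cfsg.Agent.Lib.Helper8.Tw Cfsg.Agent.PSUT Cfsg.Agent.Lib.Helper8.AutSp
open Cfsg.Agent.Lib.Helper5.AutBN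
open scoped MatrixGroups

section

variable {N : ℕ} {F : Type*} [Field F] [Fintype F] {φ : F →+* F} {q : ℕ}

/-- the diagonal elements -/
def TT (N : ℕ) (F : Type*) [Field F] [Finite F] (φ : F →+* F) : Subgroup (SUm N F φ) :=
  subgroupOfMul {g | ∀ a b : Fin N, a ≠ b →
      ((gl g : GL (Fin N) F) : Matrix (Fin N) (Fin N) F) a b = 0}
    (by
      intro a b hab
      rw [gl_one, Units.val_one, Matrix.one_apply_ne hab])
    (fun g h hg hh => by
      intro a b hab
      rw [gl_mul, Units.val_mul, Matrix.mul_apply]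
      apply Finset.sum_eq_zero
      intro c _
      by_cases hc : a = c
      · subst hc
        rw [hh a b hab, mul_zero]
      · rw [hg a c hc, zero_mul])

theorem mem_TT {g : SUm N F φ} : g ∈ TT N F φ ↔ ∀ a b : Fin N, a ≠ b →
    ((gl g : GL (Fin N) F) : Matrix (Fin N) (Fin N) F) a b = 0 := Iff.rfl

/-- the opposite Borel subgroup consists of the lower triangular elements -/
theorem Ctx.mem_cj_n0_BB (C : Ctx N F φ q) {g : SUm N F φ} :
    g ∈ cj C.n0 (BB N F φ) ↔ ∀ a b : Fin N, a < b →
      ((gl g : GL (Fin N) F) : Matrix (Fin N) (Fin N) F) a b = 0 := by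
  rw [mem_cj, mem_BB]
  constructor
  · intro h a b hab
    have h1 := (C.n0_conj_eq_zero_iff g a.rev b.rev).1 (h a.rev b.rev (Fin.rev_lt_rev.2 hab))
    rwa [Fin.rev_rev, Fin.rev_rev] at h1
  · intro h a b hba
    exact (C.n0_conj_eq_zero_iff g a b).2 (h a.rev b.rev (Fin.rev_lt_rev.2 hba))

/-- the diagonal torus is the intersection of the two opposite Borel subgroups -/
theorem Ctx.TT_eq (C : Ctx N F φ q) : TT N F φ = BB N F φ ⊓ cj C.n0 (BB N F φ) := by
  ext g
  rw [Subgroup.mem_inf, C.mem_cj_n0_BB, mem_BB, mem_TT]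
  constructor
  · intro h
    exact ⟨fun a b hba => h a b (ne_of_gt hba), fun a b hab => h a b (ne_of_lt hab)⟩
  · rintro ⟨h1, h2⟩ a b hab
    rcases lt_or_gt_of_ne hab with h | h
    · exact h2 a b h
    · exact h1 a b h

variable {Q : Type*} [Group Q]

/-- the normalizer of the image of `U` in the central quotient is the image of `B` -/
theorem Ctx.normalizer_map_UU (C : Ctx N F φ q) (f : SUm N F φ →* Q)
    (hf : Function.Surjective f) (hker : f.ker = Subgroup.center (SUm N F φ)) :
    Subgroup.normalizer (((UU N F φ).map f : Subgroup Q) : Set Q) = (BB N F φ).map f := by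
  have hker' : f.ker ≤ C.P.B := by
    rw [hker]
    exact C.center_le_B
  have h := normalizer_eq_B (pushBN C.P f hf hker') ((UU N F φ).map f)
    (by
      rintro _ ⟨b, hb, rfl⟩ _ ⟨u, hu, rfl⟩
      rw [C.P_B] at hb
      exact ⟨b * u * b⁻¹, UU_normal b hb u hu, by rw [map_mul, map_mul, map_inv]⟩)
    (by
      rw [pushBN_B, C.P_B]
      exact Subgroup.map_mono UU_le_BB)
    (by
      rintro _ ⟨b, hb, rfl⟩
      obtain ⟨t, ht, u, hu, rfl⟩ := C.exists_TU b hb
      exact ⟨f t, ⟨Subgroup.mem_map_of_mem f ht.1, Subgroup.mem_map_of_mem f ht.2⟩, f u,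
        Subgroup.mem_map_of_mem f hu, map_mul f t u⟩)
  rw [pushBN_B, C.P_B] at h
  exact h

/-- the normalizer of a conjugate -/
theorem normalizer_cj {G : Type*} [Group G] (g : G) (H : Subgroup G) :
    Subgroup.normalizer ((cj g H : Subgroup G) : Set G)
      = cj g (Subgroup.normalizer (H : Set G)) := by
  unfold cj
  exact (Subgroup.map_equiv_normalizer_eq H (MulAut.conj g)).symm

/-- the normalizer of the image of `V` in the central quotient is the image of the opposite
Borel subgroup -/
theorem Ctx.normalizer_map_VV (C : Ctx N F φ q) (f : SUm N F φ →* Q)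
    (hf : Function.Surjective f) (hker : f.ker = Subgroup.center (SUm N F φ)) :
    Subgroup.normalizer (((VV N F φ).map f : Subgroup Q) : Set Q)
      = (cj C.n0 (BB N F φ)).map f := by
  rw [← C.cj_n0_UU, ← cj_map, normalizer_cj, C.normalizer_map_UU f hf hker, cj_map]

/-- an automorphism fixing a subgroup fixes its normalizer -/
theorem map_normalizer_of_map_eq (τ : Q ≃* Q) (H : Subgroup Q)
    (h : H.map τ.toMonoidHom = H) :
    (Subgroup.normalizer (H : Set Q)).map τ.toMonoidHom = Subgroup.normalizer (H : Set Q) := by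
  rw [Subgroup.map_equiv_normalizer_eq, h]

/-- an automorphism of the central quotient fixing the images of `B` and `V` fixes the image of
the diagonal torus -/
theorem Ctx.map_TT_of_map_eq (C : Ctx N F φ q) (f : SUm N F φ →* Q)
    (hf : Function.Surjective f) (hker : f.ker = Subgroup.center (SUm N F φ)) (τ : Q ≃* Q)
    (hB : ((BB N F φ).map f).map τ.toMonoidHom = (BB N F φ).map f)
    (hV : ((VV N F φ).map f).map τ.toMonoidHom = (VV N F φ).map f) :
    ((TT N F φ).map f).map τ.toMonoidHom = (TT N F φ).map f := by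
  have hkB : f.ker ≤ BB N F φ := by
    rw [hker, ← C.P_B]
    exact C.center_le_B
  have h1 := map_normalizer_of_map_eq τ _ hV
  rw [C.normalizer_map_VV f hf hker] at h1
  rw [C.TT_eq, map_inf_of_ker_le hkB, Subgroup.map_inf _ _ _ τ.injective, hB, h1]

/-- **The normal form, with the torus.** -/
theorem Ctx.su_normal_form_torus (C : Ctx N F φ q) (p : ℕ) [Fact p.Prime] [CharP F p]
    (f : SUm N F φ →* Q) (hf : Function.Surjective f)
    (hker : f.ker = Subgroup.center (SUm N F φ)) (θ : Q ≃* Q) :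
    ∃ x : Q,
      ((UU N F φ).map f).map (θ.trans (MulAut.conj x⁻¹)).toMonoidHom = (UU N F φ).map f ∧
      ((VV N F φ).map f).map (θ.trans (MulAut.conj x⁻¹)).toMonoidHom = (VV N F φ).map f ∧
      ((BB N F φ).map f).map (θ.trans (MulAut.conj x⁻¹)).toMonoidHom = (BB N F φ).map f ∧
      ((TT N F φ).map f).map (θ.trans (MulAut.conj x⁻¹)).toMonoidHom = (TT N F φ).map f ∧
      (∀ j, j < N / 2 → ((Xp N F φ j).map f).map (θ.trans (MulAut.conj x⁻¹)).toMonoidHom
        = (Xp N F φ j).map f) ∧
      (∀ j, j < N / 2 → ((Xm N F φ j).map f).map (θ.trans (MulAut.conj x⁻¹)).toMonoidHom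
        = (Xm N F φ j).map f) := by
  obtain ⟨x, hU, hV, hB, hXp, hXm⟩ := C.su_normal_form p f hf hker θ
  exact ⟨x, hU, hV, hB, C.map_TT_of_map_eq f hf hker _ hB hV, hXp, hXm⟩

end

end Cfsg.Agent.Lib.Helper5.AutSU
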